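import Cfsg.Agent.Lib.J4Type19.M22Facts
import Cfsg.Agent.Lib.Compute.Mathieu.Outer

/-!
An automorphism of M22 fixing one and inverting another of two commuting elements of order three, with an element
of M22 inverting the first.
-/

set_option autoImplicit false
set_option maxRecDepth 100000

namespace Cfsg.Agent.Lib.J4Bridge14

open Cfsg.Agent.Lib.Compute Cfsg.Agent.Lib.Compute.Mathieu Cfsg.Agent.Lib.J4Type19

local notation "en" => m22Enc

/-- The outer involution. -/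
def invLit : ℕ × ℕ :=
  (0x16141513121011040e060c0b030901050d070f0a020817, 0x16141513121011040e060c0b030901050d070f0a020817)

/-- Code of the inverse of the second basic element of order three. -/
noncomputable def invCbi : ℕ := mc (mc Data.ely.1 Data.ela.2) Data.ely.2

/-- Code of the inverted element. -/
noncomputable def invV : ℕ := mc Data.ela.1 invCbi

theorem invNorm_ok : normCheck (permOps 8 24) m22Gens m22Chain invLit = true := by decide +kernel

theorem invLit_perm : permCheck 8 24 invLit.1 invLit.2 = true := by decide +kernel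

theorem invLit_pack : packP 8 (getP 8 invLit.1) 24 = invLit.1 := by decide +kernel

theorem invFacts_ok :
    (Nat.beq (mc (mc invLit.1 Data.ela.1) invLit.2) Data.ela.1 &&
      Nat.beq (mc (mc invLit.1 invV) invLit.2) (mc cb Data.ela.2) &&
      Nat.beq (mc invV (mc invV invV)) c1 && !Nat.beq invV c1 && !Nat.beq invV Data.ela.1 &&
      !Nat.beq invV Data.ela.2 && Nat.beq (mc Data.ela.1 invV) (mc invV Data.ela.1) &&
      Nat.beq (mc (mc (mc Data.ely.1 Data.ely.1) Data.ela.1) (mc Data.ely.2 Data.ely.2)) Data.ela.2) = true := by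
  decide +kernel

theorem enc_perm_mul (g h : Equiv.Perm Cfsg.GolayPt) :
    ptCoding.enc (g * h) = mulP 8 24 (ptCoding.enc g) (ptCoding.enc h) := by
  rw [← permOps_mul]
  exact (ptCoding.mul_enc g h).symm

theorem exists_inverter_gen : ∃ (a b y : MG) (d : MulAut MG),
    a ^ 3 = 1 ∧ b ^ 3 = 1 ∧ Commute a b ∧ a ≠ 1 ∧ b ≠ 1 ∧ b ≠ a ∧ b ≠ a⁻¹ ∧ y * a * y⁻¹ = a⁻¹ ∧
      d a = a ∧ d b = b⁻¹ := by
  obtain ⟨n, -, h1, h2⟩ := pairOK_of_permCheck ptEquiv (by decide) invLit_perm invLit_pack invLit_pack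
  have hc := conj_mem_of_normCheck ptCoding gensOK_m22 m22Chain_ok invNorm_ok (g := n) h1 h2
  obtain ⟨a, ha, ha'⟩ := lift_lit (p := Data.ela) (by simp [litList])
  obtain ⟨y, hy, hy'⟩ := lift_lit (p := Data.ely) (by simp [litList])
  have hb : en (y * a * y⁻¹) = cb := by rw [enc_mul, enc_mul, hy, ha, hy', cb]
  have hb' : en (y * a * y⁻¹)⁻¹ = invCbi := by
    rw [show (y * a * y⁻¹)⁻¹ = y * a⁻¹ * y⁻¹ by group, enc_mul, enc_mul, hy, ha', hy', invCbi]
  have hv : en (a * (y * a * y⁻¹)⁻¹) = invV := by rw [enc_mul, ha, hb', invV]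
  have hv' : en (a * (y * a * y⁻¹)⁻¹)⁻¹ = mc cb Data.ela.2 := by
    rw [mul_inv_rev, inv_inv, enc_mul, hb, ha']
  have hone : en 1 = c1 := m22Enc_one
  have hn1 : ptCoding.enc n = invLit.1 := h1
  have hn2 : ptCoding.enc n⁻¹ = invLit.2 := h2
  have hconj : ∀ x : MG, en (⟨n * x * n⁻¹, (hc x x.2).1⟩ : MG) = mc (mc invLit.1 (en x)) invLit.2 := by
    intro x
    unfold m22Enc mc
    rw [enc_perm_mul, enc_perm_mul, hn1, hn2]
  have hF := invFacts_ok
  simp only [Bool.and_eq_true] at hF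
  obtain ⟨⟨⟨⟨⟨⟨⟨hda, hdv⟩, hv3⟩, hv1⟩, hva⟩, hva'⟩, hcomm⟩, hy2⟩ := hF
  have ha3 : a ^ 3 = 1 := by
    have h := ay_ok
    simp only [Bool.and_eq_true] at h
    apply m22Enc_inj
    rw [pow_succ, pow_two, mul_assoc, enc_mul, enc_mul, ha, hone]
    exact beq_mul h.1.1.1.1.1.1.1
  have ha1 : a ≠ 1 := by
    have h := ay_ok
    simp only [Bool.and_eq_true] at h
    exact ne_of_not_beq (by rw [ha, hone]; exact h.1.1.1.1.1.1.2)
  obtain ⟨v, hv, hv'⟩ : ∃ v : MG, en v = invV ∧ en v⁻¹ = mc cb Data.ela.2 := ⟨_, hv, hv'⟩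
  refine ⟨a, v, y * y,
    conjRestrict m22Group n (fun x hx => (hc x hx).1) (fun x hx => (hc x hx).2),
    ha3, ?_, ?_, ha1, ?_, ?_, ?_, ?_, ?_, ?_⟩
  · apply m22Enc_inj
    rw [pow_succ, pow_two, mul_assoc, enc_mul, enc_mul, hv, hone]
    exact beq_mul hv3
  · apply m22Enc_inj
    show en (a * v) = en (v * a)
    rw [enc_mul, enc_mul, hv, ha]
    exact beq_mul hcomm
  · exact ne_of_not_beq (by rw [hv, hone]; exact hv1)
  · exact ne_of_not_beq (by rw [hv, ha]; exact hva)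
  · exact ne_of_not_beq (by rw [hv, ha']; exact hva')
  · apply m22Enc_inj
    rw [mul_inv_rev, enc_mul (y * y * a), enc_mul (y * y), enc_mul y y, enc_mul y⁻¹ y⁻¹, hy, hy', ha, ha']
    exact beq_mul hy2
  · apply m22Enc_inj
    refine (hconj a).trans ?_
    rw [ha]
    exact beq_mul hda
  · apply m22Enc_inj
    refine (hconj _).trans ?_
    rw [hv, hv']
    exact beq_mul hdv

theorem exists_inverter : ∃ (a b y : ↥Cfsg.Spor.M22) (d : MulAut ↥Cfsg.Spor.M22),
    a ^ 3 = 1 ∧ b ^ 3 = 1 ∧ Commute a b ∧ a ≠ 1 ∧ b ≠ 1 ∧ b ≠ a ∧ b ≠ a⁻¹ ∧ y * a * y⁻¹ = a⁻¹ ∧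
      d a = a ∧ d b = b⁻¹ := by
  rw [← m22_eq_spor]
  exact exists_inverter_gen

end Cfsg.Agent.Lib.J4Bridge14
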