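import Cfsg.Agent.Lib.J4Bridge14.Core
import Cfsg.Agent.Lib.J4Bridge14.Inverter
import Cfsg.Agent.Lib.PSolvable.Core

/-!
# A centraliser of shape `2^(1+12).3.Aut(M22)` gives a group of Janko-four type
-/

set_option autoImplicit false

namespace Cfsg.Agent.Lib.J4Bridge14

open Cfsg
open Cfsg.Agent.Lib.J4Type19 (M22t m22_card m22_conj_injective m22_finite)

theorem isExtraspecial_congr {E E' : Type*} [Group E] [Group E'] (e : E ≃* E') {p : ℕ}
    (h : Cfsg.IsExtraspecial p E) : Cfsg.IsExtraspecial p E' := by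
  obtain ⟨⟨hp, hfr, hcm⟩, hcard⟩ := h
  have hc : (Subgroup.center E).map e.toMonoidHom = Subgroup.center E' := by
    ext y
    obtain ⟨x, rfl⟩ := e.surjective y
    simp only [Subgroup.mem_map, MulEquiv.coe_toMonoidHom, Subgroup.mem_center_iff]
    constructor
    · rintro ⟨a, ha, hax⟩ w
      obtain ⟨v, rfl⟩ := e.surjective w
      rw [← hax, ← map_mul, ← map_mul, ha v]
    · exact fun hy => ⟨x, fun v => e.injective (by rw [map_mul, map_mul, hy (e v)]), rfl⟩
  have hf : (frattini E).map e.toMonoidHom = frattini E' := by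
    refine le_antisymm (Subgroup.map_le_iff_le_comap.2
      (frattini_le_comap_frattini_of_surjective (φ := e.toMonoidHom) e.surjective)) fun y hy => ?_
    exact ⟨e.symm y, frattini_le_comap_frattini_of_surjective (φ := e.symm.toMonoidHom)
      e.symm.surjective hy, e.apply_symm_apply y⟩
  refine ⟨⟨hp.of_equiv e, by rw [← hf, ← hc, hfr], ?_⟩, ?_⟩
  · rw [← hc, ← hcm, commutator_def, commutator_def, Subgroup.map_commutator,
      Subgroup.map_top_of_surjective e.toMonoidHom e.surjective]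
  · rw [← hc, Subgroup.card_map_of_injective e.injective, hcard]

/-- An automorphism commuting with every inner automorphism is trivial. -/
theorem eq_one_of_commute_inn {f : MulAut M22t} (h : ∀ m : M22t, f * MulAut.conj m = MulAut.conj m * f) : f = 1 := by
  refine MulEquiv.ext fun m => m22_conj_injective ?_
  have h1 : MulAut.conj (f m) = f * MulAut.conj m * f⁻¹ := by
    refine MulEquiv.ext fun x => ?_
    simp only [MulAut.mul_apply, MulAut.conj_apply, map_mul, map_inv, MulAut.apply_inv_self]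
  rw [MulAut.one_apply, h1, h m, mul_inv_cancel_right]

/-- A normal two-subgroup of `Aut(M22)` is trivial. -/
theorem normal_two_eq_bot (R : Subgroup (MulAut M22t)) (hn : R.Normal) (h2 : IsPGroup 2 ↥R) : R = ⊥ := by
  have := m22_finite
  obtain ⟨F⟩ := Cfsg.Agent.Lib.J4Type19.exists_mFacts
  have := F.simple
  rw [Subgroup.eq_bot_iff_forall]
  rcases (hn.comap (MulAut.conj : M22t →* MulAut M22t)).eq_bot_or_eq_top with h | h
  · intro f hf
    refine eq_one_of_commute_inn fun m => ?_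
    have h1 : MulAut.conj (f m) = f * MulAut.conj m * f⁻¹ := by
      refine MulEquiv.ext fun x => ?_
      simp only [MulAut.mul_apply, MulAut.conj_apply, map_mul, map_inv, MulAut.apply_inv_self]
    have hmem : f * MulAut.conj m * f⁻¹ * (MulAut.conj m)⁻¹ ∈ R := by
      rw [show f * MulAut.conj m * f⁻¹ * (MulAut.conj m)⁻¹ = f * (MulAut.conj m * f⁻¹ * (MulAut.conj m)⁻¹) by group]
      exact mul_mem hf (hn.conj_mem _ (inv_mem hf) _)
    have hone : f m * m⁻¹ = 1 := Subgroup.mem_bot.1 (h ▸ (show f m * m⁻¹ ∈ R.comap MulAut.conj by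
      rw [Subgroup.mem_comap, map_mul, map_inv, h1]; exact hmem))
    have : f * MulAut.conj m * f⁻¹ = MulAut.conj m := by rw [← h1, mul_inv_eq_one.1 hone]
    exact mul_inv_eq_iff_eq_mul.1 this
  · exfalso
    obtain ⟨k, hk⟩ := h2 ⟨MulAut.conj F.a, h.ge (Subgroup.mem_top F.a)⟩
    have hk' : F.a ^ (2 ^ k) = 1 := m22_conj_injective (by
      rw [map_pow, map_one]; exact congrArg Subtype.val hk)
    have h1 : orderOf F.a ∣ 2 ^ k := orderOf_dvd_of_pow_eq_one hk'
    rw [orderOf_eq_prime (hp := ⟨Nat.prime_three⟩) F.a3 F.a1] at h1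
    exact absurd (Nat.prime_three.dvd_of_dvd_pow h1) (by norm_num)

namespace Pre

variable {C : Type*} [Group C] [Finite C] (S : Pre C)

theorem pCore_eq : pCore 2 C = S.Q := by
  have : Fact (Nat.Prime 2) := ⟨Nat.prime_two⟩
  have := S.Qn
  refine le_antisymm ?_ (PSolvable.le_pCore S.hQ.1.1)
  have hp := PSolvable.pCore_isPGroup (p := 2) (G := C)
  have hn : ((pCore 2 C).map S.φ).Normal :=
    Subgroup.Normal.map inferInstance S.φ S.surj
  have hbot := normal_two_eq_bot _ hn (hp.map S.φ)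
  have hN : pCore 2 C ≤ S.N := fun c hc =>
    (S.ker c).1 (Subgroup.mem_bot.1 (hbot ▸ Subgroup.mem_map_of_mem S.φ hc))
  obtain ⟨p, hpN, hp3, hp1⟩ := S.exists_p
  let F : Frame C := { toPre := S, p := p, pN := hpN, p3 := hp3, p1 := hp1 }
  intro c hc
  obtain ⟨q, hq, i, rfl⟩ := F.N_dec (hN hc)
  have hpi : p ^ i ∈ pCore 2 C := by
    have := mul_mem (inv_mem (PSolvable.le_pCore S.hQ.1.1 hq)) hc
    simpa [mul_assoc] using this
  obtain ⟨k, hk⟩ := hp ⟨p ^ i, hpi⟩
  have h1 : orderOf (p ^ i) ∣ 2 ^ k := orderOf_dvd_of_pow_eq_one (congrArg Subtype.val hk)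
  have h2 : orderOf (p ^ i) ∣ 3 := orderOf_dvd_of_pow_eq_one (by
    rw [← pow_mul, mul_comm, pow_mul, hp3, one_pow])
  have h3 := Nat.dvd_gcd h1 h2
  rw [show Nat.gcd (2 ^ k) 3 = 1 from Nat.Coprime.pow_left k (by decide), Nat.dvd_one, orderOf_eq_one_iff] at h3
  have : q * p ^ i = q := by rw [h3, mul_one]
  exact this.symm ▸ hq

end Pre

/-- The setting read in the group gives Janko-four type. -/
theorem isOfJankoFourTypeAt {G : Type*} [Group G] [Finite G] (z : G) (hz : orderOf z = 2)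
    (S : Pre ↥(Subgroup.centralizer ({z} : Set G))) (hSz : (S.z : G) = z) : IsOfJankoFourTypeAt z := by
  classical
  obtain ⟨a, b, y, δ, a3, b3, ab, a1, b1, ba, ba', hy, hδa, hδb⟩ := exists_inverter
  let T : Pair := ⟨a, b, y, a3, b3, ab, a1, b1, ba, ba', hy⟩
  obtain ⟨p₀, hpN₀, hp3₀, hp1₀⟩ := S.exists_p
  obtain ⟨F, hFS⟩ : ∃ F : Frame ↥(Subgroup.centralizer ({z} : Set G)), F.toPre = S :=
    ⟨{ toPre := S, p := p₀, pN := hpN₀, p3 := hp3₀, p1 := hp1₀ }, rfl⟩
  subst hFS
  obtain ⟨H, hH⟩ : ∃ H, H = Subgroup.centralizer ({z} : Set G) := ⟨_, rfl⟩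
  obtain ⟨π, hs, hπ⟩ := F.exists_pi
  have hcent := F.centQ T
  -- the kernel of `π` is central
  have hker : ∀ k : ↥F.D, π k = 1 → ∀ d : ↥F.D, Commute k d := by
    intro k hk d
    obtain ⟨f, hf, hfc, i, he⟩ := (F.ker_pi hπ k).1 hk
    apply Subtype.ext
    show (k : ↥(Subgroup.centralizer ({z} : Set G))) * d = d * k
    rw [he]
    have h1 : Commute f (d : ↥(Subgroup.centralizer ({z} : Set G))) := by
      rcases hcent f hf hfc with rfl | rfl
      · exact Commute.one_left _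
      · exact F.zc _
    exact (h1.mul_left (d.2.2.symm.pow_left i)).eq
  -- an element inverting `p`
  obtain ⟨c, hcp⟩ : ∃ c : ↥(Subgroup.centralizer ({z} : Set G)), c * F.p * c⁻¹ = F.p⁻¹ := by
    obtain ⟨c₀, hc₀⟩ := F.surj δ
    obtain ⟨q, hq, h⟩ := F.frattini c₀
    have hφ : F.φ (q⁻¹ * c₀) = δ := by rw [map_mul, map_inv, (F.ker q).2 (F.hQN hq), inv_one, one_mul, hc₀]
    rcases h with h | h
    · exfalso
      obtain ⟨D3⟩ := F.exists_threeData T hs hπ
      obtain ⟨c, hcd⟩ : ∃ c, c = q⁻¹ * c₀ := ⟨_, rfl⟩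
      rw [← hcd] at h hφ
      have hcc : Commute c F.p := mul_inv_eq_iff_eq_mul.1 h
      have hconjmem : ∀ d : ↥F.D, c * (d : ↥(Subgroup.centralizer ({z} : Set G))) * c⁻¹ ∈ F.D := fun d =>
        ⟨by rw [map_mul, map_mul, map_inv]; exact (inferInstance : (Inn M22t).Normal).conj_mem _ d.2.1 _,
          (hcc.mul_left d.2.2).mul_left hcc.inv_left⟩
      let γ : ↥F.D →* ↥F.D :=
        { toFun := fun d => ⟨_, hconjmem d⟩
          map_one' := Subtype.ext (by simp)
          map_mul' := fun d e => Subtype.ext (by simp [mul_assoc]) }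
      have hπγ : ∀ d, π (γ d) = δ (π d) := fun d => m22_conj_injective (by
        rw [hπ]
        show F.φ (c * (d : ↥(Subgroup.centralizer ({z} : Set G))) * c⁻¹) = _
        rw [map_mul, map_mul, map_inv, hφ, ← hπ d]
        refine MulEquiv.ext fun x => ?_
        simp only [MulAut.mul_apply, MulAut.conj_apply, map_mul, map_inv, MulAut.apply_inv_self])
      obtain ⟨pD, hpD⟩ : ∃ pD, pD = (⟨F.p, F.pD⟩ : ↥F.D) := ⟨_, rfl⟩
      have hγp : γ pD = pD := by rw [hpD]; exact Subtype.ext h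
      have hpc : ∀ d : ↥F.D, Commute pD d := fun d => hpD ▸ Subtype.ext d.2.2.symm
      obtain ⟨k, hk⟩ : ∃ k, k = γ D3.A * D3.A⁻¹ := ⟨_, rfl⟩
      obtain ⟨l, hl⟩ : ∃ l, l = γ D3.B * D3.B := ⟨_, rfl⟩
      have hπk : π k = 1 := by rw [hk, map_mul, map_inv, hπγ, D3.πA, hδa, mul_inv_cancel]
      have hπl : π l = 1 := by rw [hl, map_mul, hπγ, D3.πB, hδb, inv_mul_cancel]
      have hA : γ D3.A = k * D3.A := by rw [hk, inv_mul_cancel_right]
      have hB : γ D3.B = l * D3.B⁻¹ := by rw [hl, mul_inv_cancel_right]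
      have hrel := congrArg γ D3.rel
      rw [← hpD, map_mul, map_mul, map_inv, map_mul, map_pow, hγp, hA, hB] at hrel
      have hkc := hker k hπk
      have hlc := hker l hπl
      have h1 : l * D3.B⁻¹ * (k * D3.A) * (l * D3.B⁻¹)⁻¹ = k * (D3.B⁻¹ * D3.A * D3.B) := by
        calc l * D3.B⁻¹ * (k * D3.A) * (l * D3.B⁻¹)⁻¹
            = l * (D3.B⁻¹ * k) * D3.A * D3.B * l⁻¹ := by group
          _ = l * (k * (D3.B⁻¹ * D3.A * D3.B)) * l⁻¹ := by rw [← (hkc D3.B⁻¹).eq]; group
          _ = _ := by rw [(hlc _).eq, mul_inv_cancel_right]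
      rw [h1, ← mul_assoc (pD ^ D3.i), ((hkc pD).pow_right D3.i).eq.symm, mul_assoc k] at hrel
      have h2 : D3.B⁻¹ * D3.A * D3.B = pD ^ D3.i * D3.A := mul_left_cancel hrel
      have h3 : D3.B * D3.A * D3.B⁻¹ = pD ^ D3.i * D3.A := hpD ▸ D3.rel
      have h4 : D3.A = pD ^ D3.i * (pD ^ D3.i * D3.A) := by
        calc D3.A = D3.B * (D3.B⁻¹ * D3.A * D3.B) * D3.B⁻¹ := by group
          _ = D3.B * pD ^ D3.i * D3.A * D3.B⁻¹ := by rw [h2]; group
          _ = pD ^ D3.i * (D3.B * D3.A * D3.B⁻¹) := by rw [← ((hpc D3.B).pow_left D3.i).eq]; group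
          _ = _ := by rw [h3]
      rw [← mul_assoc, ← pow_add, right_eq_mul] at h4
      have h5 : orderOf pD ∣ D3.i + D3.i := orderOf_dvd_of_pow_eq_one h4
      rw [hpD, Subgroup.orderOf_mk, orderOf_eq_prime (hp := ⟨Nat.prime_three⟩) F.p3 F.p1] at h5
      exact D3.i_ne (by omega)
    · exact ⟨_, h⟩
  have hcore : twoCoreOfCentralizer z = F.Q.map (Subgroup.centralizer ({z} : Set G)).subtype := by
    rw [twoCoreOfCentralizer, F.pCore_eq]
  have hQle : F.Q.map (Subgroup.centralizer ({z} : Set G)).subtype ≤ Subgroup.centralizer ({z} : Set G) :=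
    Subgroup.map_subtype_le _
  obtain ⟨P, hP⟩ : ∃ P, P = Subgroup.zpowers (F.p : G) := ⟨_, rfl⟩
  have hp3G : (F.p : G) ^ 3 = 1 := congrArg Subtype.val F.p3
  have hp1G : (F.p : G) ≠ 1 := fun h => F.p1 (Subtype.ext h)
  have hoG : orderOf (F.p : G) = 3 := orderOf_eq_prime (hp := ⟨Nat.prime_three⟩) hp3G hp1G
  have hPc : ∀ x : G, x ∈ Subgroup.centralizer (P : Set G) ↔ Commute x (F.p : G) := fun x => by
    rw [hP, Subgroup.mem_centralizer_iff]
    exact ⟨fun h => (h _ (Subgroup.mem_zpowers _)).symm,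
      fun h w hw => by
        obtain ⟨n, rfl⟩ := Subgroup.mem_zpowers_iff.1 hw
        exact (h.zpow_right n).eq.symm⟩
  refine ⟨P, hz, ?_, ?_, ?_, ?_, ?_, ?_, ?_, ?_⟩
  · rw [hcore]
    exact isExtraspecial_congr (F.Q.equivMapOfInjective _ (Subgroup.subtype_injective _)) F.hQ
  · rw [hcore, Subgroup.card_map_of_injective (Subgroup.subtype_injective _), F.cardQ]
  · rw [hcore]
    rintro x ⟨hx1, hx2⟩
    refine ⟨⟨x, hx1⟩, F.self (Subgroup.mem_centralizer_iff.2 fun w hw => Subtype.ext ?_), rfl⟩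
    exact Subgroup.mem_centralizer_iff.1 hx2 _ ⟨w, hw, rfl⟩
  · have hnorm : F.N.Normal := by
      rw [show F.N = F.φ.ker by ext w; exact (F.ker w).symm]
      exact MonoidHom.normal_ker _
    refine ⟨F.N.map (Subgroup.centralizer ({z} : Set G)).subtype, ?_, Subgroup.map_subtype_le _, ?_, ?_, ?_, ?_⟩
    · rw [hcore]; exact Subgroup.map_mono F.hQN
    · intro x hx
      rw [Subgroup.mem_normalizer_iff]
      intro n
      constructor
      · rintro ⟨w, hw, rfl⟩
        exact ⟨⟨x, hx⟩ * w * ⟨x, hx⟩⁻¹, hnorm.conj_mem w hw _, rfl⟩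
      · rintro ⟨w, hw, hwe⟩
        refine ⟨⟨x, hx⟩⁻¹ * w * ⟨x, hx⟩⁻¹⁻¹, hnorm.conj_mem w hw _, ?_⟩
        rw [map_mul, map_mul, map_inv, map_inv, map_inv, hwe]
        show x⁻¹ * (x * n * x⁻¹) * x⁻¹⁻¹ = n
        group
    · rw [hcore, Subgroup.card_map_of_injective (Subgroup.subtype_injective _),
        Subgroup.card_map_of_injective (Subgroup.subtype_injective _), F.cardN]
    · have he : (F.N.map (Subgroup.centralizer ({z} : Set G)).subtype).subgroupOf
          (Subgroup.centralizer ({z} : Set G)) = F.φ.ker := by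
        ext w
        rw [MonoidHom.mem_ker, F.ker, Subgroup.mem_subgroupOf]
        exact Subgroup.mem_map_iff_mem (Subgroup.subtype_injective _)
      refine ⟨he ▸ MonoidHom.normal_ker _, ?_⟩
      have hnk : ((F.N.map (Subgroup.centralizer ({z} : Set G)).subtype).subgroupOf
          (Subgroup.centralizer ({z} : Set G))).Normal := he ▸ MonoidHom.normal_ker _
      exact ⟨(QuotientGroup.quotientMulEquivOfEq he).trans
        (QuotientGroup.quotientKerEquivOfSurjective F.φ F.surj)⟩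
    · rw [hP, Subgroup.zpowers_le]
      exact ⟨F.p, F.pN, rfl⟩
  · rw [hP, Nat.card_zpowers, hoG]
  · rw [hcore]
    ext x
    constructor
    · rintro ⟨⟨w, hw, rfl⟩, hx2⟩
      rcases hcent w hw (Subtype.ext ((hPc _).1 hx2).eq) with rfl | rfl
      · exact one_mem _
      · show (F.z : G) ∈ _
        rw [hSz]; exact Subgroup.mem_zpowers z
    · intro hx
      refine (Subgroup.zpowers_le (H := F.Q.map (Subgroup.centralizer ({z} : Set G)).subtype ⊓
        Subgroup.centralizer (P : Set G))).2 (Subgroup.mem_inf.2 ⟨⟨F.z, F.zQ, hSz⟩, (hPc z).2 ?_⟩) hx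
      have h := congrArg Subtype.val (F.zc F.p)
      rw [Subgroup.coe_mul, Subgroup.coe_mul, hSz] at h
      exact h
  · intro he
    have hcm : (c : G) ∈ Subgroup.centralizer ({z} : Set G) ⊓ Subgroup.normalizer (P : Set G) := by
      refine Subgroup.mem_inf.2 ⟨c.2, ?_⟩
      rw [Subgroup.mem_normalizer_iff]
      have hcp' : (c : G) * F.p * (c : G)⁻¹ = (F.p : G)⁻¹ := congrArg Subtype.val hcp
      have hcp'' : ∀ n : ℤ, (c : G) * (F.p : G) ^ n * (c : G)⁻¹ = (F.p : G) ^ (-n) := fun n => by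
        rw [← conj_zpow, hcp', inv_zpow']
      intro n
      rw [hP]
      constructor
      · intro hn
        obtain ⟨k, rfl⟩ := Subgroup.mem_zpowers_iff.1 hn
        exact ⟨-k, (hcp'' k).symm⟩
      · rintro hn
        obtain ⟨k, hk⟩ := Subgroup.mem_zpowers_iff.1 hn
        refine ⟨-k, ?_⟩
        have h1 := hcp'' (-k)
        rw [neg_neg, hk] at h1
        exact mul_left_cancel (mul_right_cancel h1)
    rw [he] at hcm
    have h1 := ((hPc _).1 hcm.2)
    have hcp' : (c : G) * F.p * (c : G)⁻¹ = (F.p : G)⁻¹ := congrArg Subtype.val hcp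
    rw [h1.eq, mul_inv_cancel_right, eq_inv_iff_mul_eq_one] at hcp'
    apply hp1G
    rw [pow_succ, pow_two, hcp', one_mul] at hp3G
    exact hp3G
  · have hle : F.D.map (Subgroup.centralizer ({z} : Set G)).subtype ≤
        Subgroup.centralizer ({z} : Set G) ⊓ Subgroup.centralizer (P : Set G) := by
      rintro _ ⟨w, hw, rfl⟩
      exact ⟨w.2, (hPc _).2 (congrArg Subtype.val hw.2.eq : _)⟩
    rw [hP, Subgroup.zpowers_le, ← hP]
    have h := Subgroup.mem_map_of_mem (Subgroup.centralizer ({z} : Set G)).subtype F.p_mem_commutator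
    rw [Subgroup.map_commutator] at h
    exact Subgroup.commutator_mono hle hle h

end Cfsg.Agent.Lib.J4Bridge14
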