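import Cfsg.Agent.Lib.J4Two56.Classes
import Cfsg.Agent.Lib.J4Two56.Cover

/-!
# Exactly two classes of involutions
-/

set_option autoImplicit false

universe u

namespace Cfsg.Agent.Lib.J4Bridge14

open Cfsg Cfsg.Agent.Lib.J4Two56

/-- From the coordinates and the splitting data: exactly two classes of involutions. -/
theorem two_classes {G : Type u} [Group G] [Finite G] {z : G} (T : Todd G z) (S : Split56 G z T) :
    ∃ x y : G, orderOf x = 2 ∧ orderOf y = 2 ∧ ¬ IsConj x y ∧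
      ∀ w : G, orderOf w = 2 → IsConj w x ∨ IsConj w y := by
  have h2 : IsQ 2 = False := eq_false fun h => Bool.false_ne_true (h.2.symm.trans J4Two56.isD_two)
  have ho : ∀ a, a < 2048 → a ≠ 0 → orderOf (T.el a) = 2 := fun a ha h0 =>
    orderOf_eq_prime (hp := ⟨Nat.prime_two⟩) (by rw [pow_two, T.el_sq ha]) fun h => h0 (T.eq_zero_of_el ha h)
  refine ⟨z, T.el 2, T.el_z ▸ ho 1 (by norm_num) (by norm_num), ho 2 (by norm_num) (by norm_num), ?_,
    fun w hw => ?_⟩
  · intro h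
    have hQ := (T.cls 2 (by norm_num)).1 h
    rw [h2] at hQ
    exact hQ
  obtain ⟨g, a, ha, h0, he⟩ := J4Two56.exists_conj_el (fun {σ} => cover) S hw
  have hwa : IsConj w (T.el a) := isConj_iff.2 ⟨g, he⟩
  by_cases hz : IsConj z (T.el a)
  · exact Or.inl (hwa.trans hz.symm)
  right
  have hD := J4Two56.isD_of_not_conj ha h0 hz
  obtain ⟨σ, hσ, hσe⟩ := trans_D hD J4Two56.isD_two
  obtain ⟨n, hn⟩ := T.ρ_surj ⟨σ, hσ⟩
  refine hwa.trans (isConj_iff.2 ⟨n, ?_⟩)
  rw [T.ρ_spec n a ha, hn]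
  exact congrArg T.el hσe

end Cfsg.Agent.Lib.J4Bridge14
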