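import Cfsg.Agent.Lib.J4Bridge14.Shapes
import Cfsg.Agent.Lib.J4Bridge14.TwoClasses
import Cfsg.Agent.Lib.J4Dce59.Simple
import Cfsg.Agent.Lib.J4Two56.Top
import Cfsg.Agent.Lib.J4Two56.Special

/-!
# From the global theorems on groups of Janko-four type to the recognition statements
-/

set_option autoImplicit false

universe u

namespace Cfsg.Agent.Lib.J4Bridge14

open Cfsg Cfsg.Agent.Lib.J4Two56

/-- Uniqueness of a simple group of Janko-four type. -/
def UniqueStmt : Prop :=
  ∀ (G : Type u) [Group G] [Finite G] [IsSimpleGroup G] (z : G), ¬ IsMulCommutative G →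
    IsOfJankoFourTypeAt z → Nonempty (G ≃* Spor.J4)

/-- A group of Janko-four type is not commutative. -/
theorem not_commutative {G : Type u} [Group G] {z : G} (h : IsOfJankoFourTypeAt z) :
    ¬ IsMulCommutative G := by
  intro hc
  obtain ⟨P, -, hE, hEc, -⟩ := h
  have htop : Subgroup.center ↥(twoCoreOfCentralizer z) = ⊤ := by
    rw [eq_top_iff]
    intro e _
    rw [Subgroup.mem_center_iff]
    intro f
    exact Subtype.ext (hc.is_comm.comm (f : G) e)
  have h2 := hE.2
  rw [htop, Subgroup.card_top, hEc] at h2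
  norm_num at h2

theorem iso_of_type (hU : UniqueStmt.{u}) {G : Type u} [Group G] [Finite G] [IsSimpleGroup G] {z : G}
    (h : IsOfJankoFourTypeAt z) : Cfsg.Spor.IsoJ4 G :=
  hU G z (not_commutative h) h

theorem isJ4_of_type (hU : UniqueStmt.{u}) {G : Type u} [Group G] [Finite G] [IsSimpleGroup G] {z : G}
    (h : IsOfJankoFourTypeAt z) : Cfsg.IsJ4 G := by
  obtain ⟨e⟩ := iso_of_type hU h
  exact ⟨inferInstance, (Nat.card_congr e.toEquiv).trans Cfsg.Agent.Lib.J4Dce59.card_J⟩

theorem two_classes_of_type {G : Type u} [Group G] [Finite G] [IsSimpleGroup G] {z : G}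
    (h : IsOfJankoFourTypeAt z) : ∃ x y : G, orderOf x = 2 ∧ orderOf y = 2 ∧ ¬ IsConj x y ∧
      ∀ w : G, orderOf w = 2 → IsConj w x ∨ IsConj w y := by
  have hG := not_commutative h
  obtain ⟨P, hJ⟩ := h
  obtain ⟨D, X, L, l, ⟨S⟩, -⟩ := exists_loc_split specStmt hG hJ
  exact two_classes l.T S

end Cfsg.Agent.Lib.J4Bridge14
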