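import Cfsg.Agent.Lib.J4Bridge14.Three

/-!
# The fixed points of `p` on `Q` are `⟨z⟩`
-/

set_option autoImplicit false

namespace Cfsg.Agent.Lib.J4Bridge14

open Cfsg
open Cfsg.Agent.Lib.J4Type19 (M22t m22_card m22_conj_injective)

/-- Even exponents of size at most four. -/
theorem scases (s : ℕ) (h : s ≤ 4) (hm : 2 ^ s % 3 = 1) : s = 0 ∨ s = 2 ∨ s = 4 := by
  interval_cases s <;> omega

namespace Frame

variable {C : Type*} [Group C] [Finite C] (F : Frame C)

/-- `e g v = v + g v + g² v`. -/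
def esum (g : Equiv.Perm F.V) (v : F.V) : F.V := v + g v + g (g v)

theorem rho_add (c : C) (u v : F.V) : F.rho c (u + v) = F.rho c u + F.rho c v := F.act_add c u v

theorem card_fix_three (P : C) (hP3 : P ^ 3 = 1) (U : AddSubgroup F.V) (hU : ∀ v ∈ U, F.rho P v ∈ U)
    (hfpf : ∀ v ∈ U, F.rho P v = v → v = 0) : Nat.card ↥U % 3 = 1 := by
  classical
  have := Fintype.ofFinite ↥U
  have hf : Fact (Nat.Prime 3) := ⟨Nat.prime_three⟩
  let g : Function.End ↥U := fun v => ⟨F.rho P v, hU v v.2⟩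
  have hσ : g ^ (3 ^ 1) = 1 := by
    funext v
    apply Subtype.ext
    show F.rho P (F.rho P (F.rho P v)) = v
    rw [← Equiv.Perm.mul_apply, ← Equiv.Perm.mul_apply, ← map_mul, ← map_mul,
      show P * P * P = P ^ 3 by simp [pow_succ], hP3, map_one]
    rfl
  have h := Equiv.Perm.card_fixedPoints_modEq hσ
  have hfix : Fintype.card (Function.fixedPoints g) = 1 := by
    rw [Fintype.card_eq_one_iff]
    refine ⟨⟨0, Subtype.ext (F.act_zero P)⟩, fun v => Subtype.ext (Subtype.ext ?_)⟩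
    exact hfpf _ v.1.2 (congrArg Subtype.val v.2)
  rw [hfix] at h
  rw [Nat.card_eq_fintype_card]
  exact h

theorem card_fix_eleven (X : C) (hX : X ^ 11 = 1) (U : AddSubgroup F.V) (hU : ∀ v ∈ U, F.rho X v ∈ U)
    (h64 : Nat.card ↥U = 64) : ∀ v ∈ U, F.rho X v = v := by
  classical
  have := Fintype.ofFinite ↥U
  have hf : Fact (Nat.Prime 11) := ⟨by norm_num⟩
  let g : Function.End ↥U := fun v => ⟨F.rho X v, hU v v.2⟩
  have hpow : ∀ (n : ℕ) (v : ↥U), ((g ^ n) v : F.V) = F.rho (X ^ n) v := by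
    intro n
    induction n with
    | zero => intro v; rw [pow_zero, pow_zero, map_one]; rfl
    | succ n ih =>
      intro v
      rw [pow_succ', pow_succ', map_mul, Equiv.Perm.mul_apply, ← ih v]
      rfl
  have hσ : g ^ (11 ^ 1) = 1 := by
    funext v
    apply Subtype.ext
    rw [pow_one, hpow, hX, map_one]
    rfl
  have h := Equiv.Perm.card_fixedPoints_modEq hσ
  let W : AddSubgroup ↥U :=
    { carrier := {v | g v = v}
      zero_mem' := Subtype.ext (F.act_zero X)
      add_mem' := fun {u v} (hu : g u = u) (hv : g v = v) => by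
        apply Subtype.ext
        show F.rho X ((u : F.V) + v) = (u : F.V) + v
        rw [F.rho_add]
        exact congrArg₂ (· + ·) (congrArg Subtype.val hu) (congrArg Subtype.val hv)
      neg_mem' := fun {v} (hv : g v = v) => by
        apply Subtype.ext
        show F.rho X (-(v : F.V)) = -(v : F.V)
        have : F.rho X (v : F.V) = v := congrArg Subtype.val hv
        rw [neg_eq_of_add_eq_zero_right (F.two (v : F.V)), this] }
  have hWc : Fintype.card (Function.fixedPoints g) = Nat.card ↥W := by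
    rw [← Nat.card_eq_fintype_card]; rfl
  have hd : Nat.card ↥W ∣ 64 := h64 ▸ AddSubgroup.card_addSubgroup_dvd_card W
  have h64' : Nat.card ↥W = 64 := two_pow_eq_sixtyfour hd (by
    rw [← hWc, ← h64, Nat.card_eq_fintype_card]; exact h.symm)
  have htop : W = ⊤ := AddSubgroup.eq_top_of_card_eq _ (h64'.trans h64.symm)
  intro v hv
  exact congrArg Subtype.val (show g ⟨v, hv⟩ = ⟨v, hv⟩ from htop.ge (AddSubgroup.mem_top _))

/-- The fixed points of `p` on `Q`. -/
theorem centQ (T : Pair) : ∀ q ∈ F.Q, Commute q F.p → q = 1 ∨ q = F.z := by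
  classical
  obtain ⟨π, hs, hπ⟩ := F.exists_pi
  obtain ⟨D3⟩ := F.exists_threeData T hs hπ
  obtain ⟨P, hP⟩ : ∃ P, P = F.rho F.p := ⟨_, rfl⟩
  obtain ⟨A, hA⟩ : ∃ A, A = F.rho (D3.A : C) := ⟨_, rfl⟩
  obtain ⟨B, hB⟩ : ∃ B, B = F.rho (D3.B : C) := ⟨_, rfl⟩
  have hP3 : P ^ 3 = 1 := by rw [hP, ← map_pow, F.p3, map_one]
  have hPd : ∀ d : ↥F.D, Commute (F.rho (d : C)) P := fun d => hP ▸ d.2.2.map F.rho
  have hkact : ∀ d : ↥F.D, π d = 1 → ∃ i : ℕ, F.rho (d : C) = P ^ i := by
    intro d hd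
    obtain ⟨f, hf, -, i, he⟩ := (F.ker_pi hπ d).1 hd
    exact ⟨i, by rw [he, map_mul, F.rho_Q hf, one_mul, map_pow, hP]⟩
  have hA3 : A ^ 3 = 1 := by
    obtain ⟨j, hj⟩ := D3.A3
    have hj' : A ^ 3 = P ^ j := by
      rw [hA, ← map_pow, hP, ← map_pow]
      exact congrArg F.rho (congrArg Subtype.val hj : _)
    obtain ⟨Y, hY⟩ := hs T.y
    obtain ⟨k, hk⟩ := hkact (Y * D3.A * Y⁻¹ * D3.A) (by
      rw [map_mul, map_mul, map_mul, map_inv, hY, D3.πA, T.inv, inv_mul_cancel])
    rw [Subgroup.coe_mul, Subgroup.coe_mul, Subgroup.coe_mul, Subgroup.coe_inv, map_mul, map_mul, map_mul,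
      map_inv, ← hA, ← eq_mul_inv_iff_mul_eq] at hk
    have hc : Commute A P := hA ▸ hPd D3.A
    have h1 : (F.rho (Y : C) * A * (F.rho (Y : C))⁻¹) ^ 3 = P ^ j := by
      rw [conj_pow, hj', ((hPd Y).pow_right j).eq, mul_inv_cancel_right]
    rw [hk, ((hc.pow_right k).symm.inv_right).mul_pow, inv_pow, hj', ← pow_mul, mul_comm, pow_mul, hP3,
      one_pow, one_mul, inv_eq_iff_mul_eq_one] at h1
    have h3 : (P ^ j) ^ 3 = 1 := by rw [← pow_mul, mul_comm, pow_mul, hP3, one_pow]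
    rw [pow_succ, pow_two, h1, one_mul] at h3
    rw [hj', h3]
  have hBA : B * A * B⁻¹ = P ^ D3.i * A := by
    rw [hA, hB, hP, ← map_inv, ← map_mul, ← map_mul, ← map_pow, ← map_mul]
    exact congrArg F.rho (congrArg Subtype.val D3.rel : _)
  have hAP : Commute A P := hA ▸ hPd D3.A
  have hBP : Commute B P := hB ▸ hPd D3.B
  have hlin : ∀ (g : C) (u v : F.V), F.rho g (u + v) = F.rho g u + F.rho g v := F.rho_add
  -- the kernel of the idempotent of p
  have hPadd : ∀ u v, P (u + v) = P u + P v := fun u v => hP ▸ hlin F.p u v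
  let W : AddSubgroup F.V :=
    { carrier := {v | F.esum P v = 0}
      zero_mem' := by
        show (0 : F.V) + P 0 + P (P 0) = 0
        have h0 : P (0 : F.V) = 0 := by rw [hP]; exact F.act_zero _
        rw [h0, h0, add_zero, add_zero]
      add_mem' := fun {u v} (hu : _ = 0) (hv : _ = 0) => by
        show (u + v) + P (u + v) + P (P (u + v)) = 0
        rw [hPadd, hPadd]
        have e : u + v + (P u + P v) + (P (P u) + P (P v)) = F.esum P u + F.esum P v := by
          simp only [esum]; abel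
        rw [e, hu, hv, add_zero]
      neg_mem' := fun {v} hv => by rwa [neg_eq_of_add_eq_zero_right (F.two v)] }
  have hW : ∀ {v : F.V}, v ∈ W ↔ v + P v + P (P v) = 0 := Iff.rfl
  have hWinv : ∀ (d : ↥F.D) {v : F.V}, v ∈ W → F.rho (d : C) v ∈ W := by
    intro d v hv
    have hc : ∀ w, P (F.rho (d : C) w) = F.rho (d : C) (P w) := fun w =>
      (Equiv.Perm.mul_apply _ _ _).symm.trans ((congrArg (fun g : Equiv.Perm F.V => g w) (hPd d).eq.symm).trans
        (Equiv.Perm.mul_apply _ _ _))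
    rw [hW, hc, hc, ← hlin, ← hlin, hW.1 hv]
    exact F.act_zero _
  have hP3' : ∀ v, P (P (P v)) = v := fun v => by
    have h := congrArg (fun g : Equiv.Perm F.V => g v) hP3
    simpa [pow_succ] using h
  have hdbl : ∀ a : F.V, a + a = 0 := F.two
  have hWfpf : ∀ v ∈ W, P v = v → v = 0 := fun v hv h => by
    have := hW.1 hv
    rw [h, h, hdbl, zero_add] at this
    exact this
  -- the three subgroups
  obtain ⟨H, hH⟩ : ∃ H : ℕ → Equiv.Perm F.V, H = fun n => P ^ n * A := ⟨_, rfl⟩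
  obtain ⟨g, hg⟩ : ∃ g : ℕ → C, g = fun n => F.p ^ n * (D3.A : C) := ⟨_, rfl⟩
  have hgH : ∀ n, F.rho (g n) = H n := fun n => by rw [hg, hH, map_mul, map_pow, hP, hA]
  have hgD : ∀ n, g n ∈ F.D := fun n => hg ▸ mul_mem (pow_mem F.pD n) D3.A.2
  have hHadd : ∀ n u v, H n (u + v) = H n u + H n v := fun n u v => by rw [← hgH]; exact hlin _ u v
  have hHW : ∀ n {v}, v ∈ W → H n v ∈ W := fun n v hv => hgH n ▸ hWinv ⟨g n, hgD n⟩ hv
  have hH3 : ∀ n v, H n (H n (H n v)) = v := fun n v => by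
    have h : (H n) ^ 3 = 1 := by
      rw [hH, (hAP.symm.pow_left n).mul_pow, hA3, mul_one, ← pow_mul, mul_comm, pow_mul, hP3, one_pow]
    have h' := congrArg (fun g : Equiv.Perm F.V => g v) h
    simpa [pow_succ] using h'
  have hApP : ∀ v, A (P v) = P (A v) := fun v =>
    (Equiv.Perm.mul_apply _ _ _).symm.trans ((congrArg (fun g : Equiv.Perm F.V => g v) hAP.eq).trans
      (Equiv.Perm.mul_apply _ _ _))
  have hH0 : ∀ v, H 0 v = A v := fun v => by simp [hH]
  have hH1 : ∀ v, H 1 v = P (A v) := fun v => by simp [hH]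
  have hH2 : ∀ v, H 2 v = P (P (A v)) := fun v => by simp [hH, pow_two]
  let Wn : ℕ → AddSubgroup F.V := fun n =>
    { carrier := {v | v ∈ W ∧ H n v = v}
      zero_mem' := ⟨W.zero_mem, by rw [← hgH]; exact F.act_zero _⟩
      add_mem' := fun {u v} hu hv => ⟨W.add_mem hu.1 hv.1, by rw [hHadd, hu.2, hv.2]⟩
      neg_mem' := fun {v} hv => by rwa [neg_eq_of_add_eq_zero_right (F.two v)] }
  have hWnW : ∀ n, Wn n ≤ W := fun n v hv => hv.1
  have hE : ∀ n {v}, v ∈ W → F.esum (H n) v ∈ Wn n := fun n v hv => ⟨W.add_mem (W.add_mem hv (hHW n hv))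
    (hHW n (hHW n hv)), by simp only [esum]; rw [hHadd, hHadd, hH3]; abel⟩
  have hthree : ∀ v ∈ W, F.esum (H 0) v + F.esum (H 1) v + F.esum (H 2) v = v := by
    intro v hv
    have hAv : A v + P (A v) + P (P (A v)) = 0 := hW.1 (hH0 v ▸ hHW 0 hv)
    have hAAv : A (A v) + P (A (A v)) + P (P (A (A v))) = 0 := by
      have := hW.1 (hH0 _ ▸ hHW 0 (hH0 v ▸ hHW 0 hv))
      exact this
    have hAPadd : ∀ a b, A (a + b) = A a + A b := fun a b => by rw [hA]; exact hlin _ a b
    simp only [esum, hH0, hH1, hH2, hApP, hP3']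
    calc _ = (v + v) + v + (A v + P (A v) + P (P (A v))) + (A (A v) + P (A (A v)) + P (P (A (A v)))) := by abel
      _ = v := by rw [hAv, hAAv, hdbl, zero_add, add_zero, add_zero]
  have hmix : ∀ n m, n < 3 → m < 3 → n ≠ m → ∀ v ∈ Wn n, F.esum (H m) v = 0 := by
    intro n m hn hm hne v hv
    have hvW := hW.1 hv.1
    have hfix := hv.2
    have hPH : ∀ k w, P (H k w) = H k (P w) := fun k w => by
      have hc : Commute P (H k) := by rw [hH]; exact ((Commute.refl P).pow_right k).mul_right hAP.symm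
      rw [← Equiv.Perm.mul_apply, hc.eq, Equiv.Perm.mul_apply]
    have hm' : ∃ d, (d = 1 ∨ d = 2) ∧ ∀ w, H m w = (P ^ d) (H n w) := by
      refine ⟨(m + 3 - n) % 3, by omega, fun w => ?_⟩
      have key : P ^ ((m + 3 - n) % 3 + n) = P ^ m := by
        rw [← Nat.mod_add_div ((m + 3 - n) % 3 + n) 3, pow_add, pow_mul, hP3, one_pow, mul_one,
          show ((m + 3 - n) % 3 + n) % 3 = m by omega]
      rw [hH, ← Equiv.Perm.mul_apply, ← mul_assoc, ← pow_add, key]
    obtain ⟨d, hd, hmd⟩ := hm'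
    simp only [esum, hmd, hfix]
    rcases hd with rfl | rfl
    · simp only [pow_one]
      rw [← hPH, hfix]; exact hvW
    · simp only [pow_two, Equiv.Perm.mul_apply]
      rw [← hPH, ← hPH, hfix, hP3']
      rw [← hvW]; abel
  have hfixed : ∀ n, ∀ v ∈ Wn n, F.esum (H n) v = v := fun n v hv => by
    simp only [esum, hv.2, hdbl, zero_add]
  have hEadd : ∀ n u v, F.esum (H n) (u + v) = F.esum (H n) u + F.esum (H n) v := fun n u v => by
    simp only [esum, hHadd]; abel
  have hprod : Nat.card ↥W = Nat.card ↥(Wn 0) * Nat.card ↥(Wn 1) * Nat.card ↥(Wn 2) := by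
    rw [← Nat.card_prod, ← Nat.card_prod]
    refine Nat.card_eq_of_bijective (fun v => ((⟨_, hE 0 v.2⟩, ⟨_, hE 1 v.2⟩), ⟨_, hE 2 v.2⟩)) ⟨?_, ?_⟩
    · intro u v h
      simp only [Prod.mk.injEq, Subtype.mk.injEq] at h
      apply Subtype.ext
      rw [← hthree _ u.2, ← hthree _ v.2, h.1.1, h.1.2, h.2]
    · rintro ⟨⟨⟨a, ha⟩, ⟨b, hb⟩⟩, ⟨c, hc⟩⟩
      refine ⟨⟨a + b + c, W.add_mem (W.add_mem (hWnW _ ha) (hWnW _ hb)) (hWnW _ hc)⟩, ?_⟩
      simp only [Prod.mk.injEq, Subtype.mk.injEq]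
      refine ⟨⟨?_, ?_⟩, ?_⟩ <;> rw [hEadd, hEadd]
      · rw [hfixed 0 a ha, hmix 1 0 (by omega) (by omega) (by omega) b hb,
          hmix 2 0 (by omega) (by omega) (by omega) c hc, add_zero, add_zero]
      · rw [hfixed 1 b hb, hmix 0 1 (by omega) (by omega) (by omega) a ha,
          hmix 2 1 (by omega) (by omega) (by omega) c hc, zero_add, add_zero]
      · rw [hfixed 2 c hc, hmix 0 2 (by omega) (by omega) (by omega) a ha,
          hmix 1 2 (by omega) (by omega) (by omega) b hb, zero_add, zero_add]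
  have hHmod : ∀ n, H n = H (n % 3) := fun n => by
    rw [hH]
    show P ^ n * A = P ^ (n % 3) * A
    conv_lhs => rw [← Nat.mod_add_div n 3, pow_add, pow_mul, hP3, one_pow, mul_one]
  have hmove : ∀ n, Nat.card ↥(Wn n) ≤ Nat.card ↥(Wn ((D3.i + n) % 3)) := by
    intro n
    have hconj : ∀ v, B (H n v) = H (D3.i + n) (B v) := by
      intro v
      have : B * (P ^ n * A) = P ^ (D3.i + n) * A * B := by
        calc B * (P ^ n * A) = P ^ n * (B * A * B⁻¹) * B := by
              rw [← mul_assoc, (hBP.pow_right n).eq]; group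
          _ = P ^ (D3.i + n) * A * B := by rw [hBA, ← mul_assoc, ← pow_add, add_comm n]
      simpa [hH] using congrArg (fun g : Equiv.Perm F.V => g v) this
    refine Nat.card_le_card_of_injective (fun v => ⟨B v, ?_, ?_⟩) fun u v h => ?_
    · rw [hB]; exact hWinv D3.B v.2.1
    · rw [← hHmod, ← hconj, v.2.2]
    · exact Subtype.ext (B.injective (congrArg Subtype.val h))
  have hne := D3.i_ne
  have heq : Nat.card ↥(Wn 1) = Nat.card ↥(Wn 0) ∧ Nat.card ↥(Wn 2) = Nat.card ↥(Wn 0) := by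
    have h0 := hmove 0
    have h1 := hmove 1
    have h2 := hmove 2
    rcases (show D3.i % 3 = 1 ∨ D3.i % 3 = 2 by omega) with h | h
    · rw [show (D3.i + 0) % 3 = 1 by omega] at h0
      rw [show (D3.i + 1) % 3 = 2 by omega] at h1
      rw [show (D3.i + 2) % 3 = 0 by omega] at h2
      omega
    · rw [show (D3.i + 0) % 3 = 2 by omega] at h0
      rw [show (D3.i + 1) % 3 = 0 by omega] at h1
      rw [show (D3.i + 2) % 3 = 1 by omega] at h2
      omega
  rw [heq.1, heq.2] at hprod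
  have hPW : ∀ v ∈ Wn 0, P v ∈ Wn 0 := fun v hv => ⟨by rw [hP]; exact hWinv ⟨F.p, F.pD⟩ hv.1, by
    rw [hH0, hApP, ← hH0, hv.2]⟩
  have hmod3 := F.card_fix_three F.p F.p3 (Wn 0) (fun v hv => hP ▸ hPW v hv)
    (fun v hv h => hWfpf v hv.1 (hP ▸ h))
  have hdW : Nat.card ↥W ∣ 2 ^ 12 := F.cardV ▸ W.card_addSubgroup_dvd_card
  have hd0 : Nat.card ↥(Wn 0) ∣ 2 ^ 12 := (Dvd.intro _ (mul_assoc _ _ _).symm).trans (hprod ▸ hdW)
  obtain ⟨s, hs12, hse⟩ := (Nat.dvd_prime_pow Nat.prime_two).1 hd0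
  rw [hse, ← pow_add, ← pow_add] at hprod
  rw [hprod, Nat.pow_dvd_pow_iff_le_right (by norm_num)] at hdW
  rw [hse] at hmod3
  have hscases : s = 0 ∨ s = 2 ∨ s = 4 := scases s (by omega) hmod3
  rcases hscases with rfl | rfl | rfl
  · -- `p` is trivial on `Q`
    exfalso
    have hW0 : ∀ v ∈ W, v = 0 := fun v hv => by
      have : W = ⊥ := AddSubgroup.eq_bot_of_card_eq _ hprod
      exact AddSubgroup.mem_bot.1 (this ▸ hv)
    have htriv : ∀ v, P v = v := fun v => by
      have he : P (F.esum P v) = F.esum P v := by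
        simp only [esum]; rw [hPadd, hPadd, hP3']; abel
      have hmem : v + F.esum P v ∈ W := hW.2 (by
        rw [hPadd, hPadd, he, he]
        calc _ = (v + P v + P (P v)) + F.esum P v + (F.esum P v + F.esum P v) := by abel
          _ = 0 := by rw [hdbl, add_zero]; exact hdbl _)
      have := hW0 _ hmem
      rw [← neg_eq_of_add_eq_zero_right this, neg_eq_of_add_eq_zero_right (hdbl v)] at he
      exact he
    apply F.p_notQ
    refine F.self (Subgroup.mem_centralizer_iff.2 fun x hx => ?_)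
    have h := htriv (F.cls ⟨x, hx⟩)
    rw [hP, F.rho_apply, F.act_cls, F.cls_eq] at h
    rcases h with h | h
    · have h' : x = F.p * x * F.p⁻¹ := h
      conv_lhs => rw [h']
      group
    · exfalso
      have h' : x = F.p * x * F.p⁻¹ * F.z := h
      apply F.z1
      have h'' : F.p * x * F.p⁻¹ = x * F.z := by
        conv_rhs => rw [h', mul_assoc, F.z_sq, mul_one]
      have hzz : F.p * F.z * F.p⁻¹ = F.z := by rw [← F.zc, mul_inv_cancel_right]
      have h2 : F.p * F.p * x * (F.p * F.p)⁻¹ = x := by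
        rw [show F.p * F.p * x * (F.p * F.p)⁻¹ = F.p * (F.p * x * F.p⁻¹) * F.p⁻¹ by group, h'',
          show F.p * (x * F.z) * F.p⁻¹ = F.p * x * F.p⁻¹ * (F.p * F.z * F.p⁻¹) by group, h'', hzz,
          mul_assoc, F.z_sq, mul_one]
      have h3 : F.p ^ 3 * x * (F.p ^ 3)⁻¹ = x * F.z := by
        rw [show F.p ^ 3 = F.p * F.p * F.p by simp [pow_succ],
          show F.p * F.p * F.p * x * (F.p * F.p * F.p)⁻¹ = F.p * (F.p * F.p * x * (F.p * F.p)⁻¹) * F.p⁻¹ by group,
          h2, h'']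
      rw [F.p3, one_mul, inv_one, mul_one, left_eq_mul] at h3
      exact h3
  · -- the element of order eleven
    exfalso
    have hW64 : Nat.card ↥W = 64 := hprod
    have : Fact (Nat.Prime 11) := ⟨by norm_num⟩
    have h11 : 11 ∣ Nat.card ↥F.D := by
      have h := π.ker.card_mul_index
      rw [Subgroup.index_ker, MonoidHom.range_eq_top.2 hs, Subgroup.card_top, m22_card] at h
      exact h ▸ dvd_mul_of_dvd_right (by norm_num) _
    obtain ⟨X, hX⟩ := exists_prime_orderOf_dvd_card' 11 h11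
    have hX11 : X ^ 11 = 1 := hX ▸ pow_orderOf_eq_one X
    have hXt := F.card_fix_eleven (X : C) (congrArg Subtype.val hX11) W (fun v hv => hWinv X hv) hW64
    let r : ↥F.D →* Equiv.Perm ↥W :=
      { toFun := fun d =>
          { toFun := fun v => ⟨F.rho (d : C) v, hWinv d v.2⟩
            invFun := fun v => ⟨F.rho ((d⁻¹ : ↥F.D) : C) v, hWinv d⁻¹ v.2⟩
            left_inv := fun v => Subtype.ext (by
              show F.rho ((d⁻¹ : ↥F.D) : C) (F.rho (d : C) v) = v
              rw [← Equiv.Perm.mul_apply, ← map_mul, Subgroup.coe_inv, inv_mul_cancel, map_one]; rfl)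
            right_inv := fun v => Subtype.ext (by
              show F.rho (d : C) (F.rho ((d⁻¹ : ↥F.D) : C) v) = v
              rw [← Equiv.Perm.mul_apply, ← map_mul, Subgroup.coe_inv, mul_inv_cancel, map_one]; rfl) }
        map_one' := Equiv.ext fun v => Subtype.ext (by
          show F.rho ((1 : ↥F.D) : C) v = v
          rw [Subgroup.coe_one, map_one]; rfl)
        map_mul' := fun c d => Equiv.ext fun v => Subtype.ext (by
          show F.rho ((c * d : ↥F.D) : C) v = F.rho (c : C) (F.rho (d : C) v)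
          rw [Subgroup.coe_mul, map_mul]; rfl) }
    have hXr : X ∈ r.ker := MonoidHom.mem_ker.2 (Equiv.ext fun v => Subtype.ext (hXt v v.2))
    have hπX : π X ≠ 1 := fun h1 => by
      obtain ⟨i, hi⟩ := hkact X h1
      obtain ⟨f, hf, hfc, k, he⟩ := (F.ker_pi hπ X).1 h1
      have hpw : (X : C) ^ (3 * 2 ^ 13) = 1 := by
        rw [he, (hfc.pow_right k).mul_pow, mul_comm 3, pow_mul f, F.Q_pow hf, one_pow, one_mul,
          mul_comm (2 ^ 13) 3, ← pow_mul, mul_comm k, mul_assoc, pow_mul, F.p3, one_pow]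
      have := orderOf_dvd_of_pow_eq_one hpw
      rw [Subgroup.orderOf_coe, hX] at this
      norm_num at this
    have hsimp : IsSimpleGroup M22t := Cfsg.Agent.Lib.J4Type19.exists_mFacts.some.simple
    have htop : (r.ker.map π) = ⊤ := by
      rcases ((r.normal_ker).map π hs).eq_bot_or_eq_top with h | h
      · exact absurd (Subgroup.mem_bot.1 (h ▸ Subgroup.mem_map_of_mem π hXr)) hπX
      · exact h
    have himg : ∀ d : ↥F.D, ∃ k : ℕ, r d = (r ⟨F.p, F.pD⟩) ^ k := by
      intro d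
      obtain ⟨e, he, hee⟩ := htop.ge (Subgroup.mem_top (π d))
      obtain ⟨k, hk⟩ := hkact (d * e⁻¹) (by rw [map_mul, map_inv, hee, mul_inv_cancel])
      refine ⟨k, ?_⟩
      have : r (d * e⁻¹) = r (⟨F.p, F.pD⟩ ^ k) := Equiv.ext fun v => Subtype.ext (by
        show F.rho ((d * e⁻¹ : ↥F.D) : C) v = F.rho ((⟨F.p, F.pD⟩ ^ k : ↥F.D) : C) v
        rw [hk, hP, ← map_pow, SubgroupClass.coe_pow])
      rwa [map_mul, map_inv, MonoidHom.mem_ker.1 he, inv_one, mul_one, map_pow] at this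
    have hcomm : ⁅(⊤ : Subgroup ↥F.D), ⊤⁆ ≤ r.ker := Subgroup.commutator_le.2 fun a _ b _ => by
      obtain ⟨k, hk⟩ := himg a
      obtain ⟨l, hl⟩ := himg b
      rw [MonoidHom.mem_ker, map_commutatorElement, hk, hl, commutatorElement_eq_one_iff_mul_comm]
      exact ((Commute.refl _).pow_pow k l).eq
    have hpk : (⟨F.p, F.pD⟩ : ↥F.D) ∈ r.ker := by
      have h : (⁅(⊤ : Subgroup ↥F.D), (⊤ : Subgroup ↥F.D)⁆ : Subgroup ↥F.D).map F.D.subtype = ⁅F.D, F.D⁆ := by
        rw [Subgroup.map_commutator, ← MonoidHom.range_eq_map, Subgroup.range_subtype]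
      obtain ⟨x, hx, hxp⟩ := h.ge F.p_mem_commutator
      exact (Subtype.ext hxp : x = ⟨F.p, F.pD⟩) ▸ hcomm hx
    have hfix : ∀ v ∈ W, v = 0 := fun v hv => hWfpf v hv (by
      have := congrArg (fun g : Equiv.Perm ↥W => ((g ⟨v, hv⟩ : ↥W) : F.V)) (MonoidHom.mem_ker.1 hpk)
      rw [hP]; exact this)
    have : W = ⊥ := (AddSubgroup.eq_bot_iff_forall _).2 hfix
    rw [this, AddSubgroup.card_bot] at hW64
    norm_num at hW64
  · intro q hq hqp
    have hWt : W = ⊤ := AddSubgroup.eq_top_of_card_eq _ (hprod.trans F.cardV.symm)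
    have hfix : P (F.cls ⟨q, hq⟩) = F.cls ⟨q, hq⟩ := by
      rw [hP, F.rho_apply, F.act_cls]
      congr 1
      apply Subtype.ext
      show F.p * q * F.p⁻¹ = q
      rw [← hqp.eq, mul_inv_cancel_right]
    exact F.cls_eq_zero.1 (hWfpf _ (hWt.ge (AddSubgroup.mem_top _)) hfix)

end Frame

end Cfsg.Agent.Lib.J4Bridge14
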