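import Mathlib

/-!
A group acting on an elementary abelian 2-group with a central fixed-point-free element of order three
which is a product of commutators: the dimension is a multiple of six, and it is at least twelve when
an element of order eleven acts nontrivially.
-/

set_option autoImplicit false

namespace Cfsg.Agent.Lib.J4Bridge14.GF4Det80

open Polynomial

/-- The polynomial of the field with four elements. -/
noncomputable def quad : (ZMod 2)[X] := X ^ 2 + X + 1

theorem quad_monic : quad.Monic := by
  rw [quad]; monicity!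

theorem quad_natDegree : quad.natDegree = 2 := by
  rw [quad]; compute_degree!

theorem quad_irreducible : Irreducible quad := by
  rw [Polynomial.irreducible_iff_roots_eq_zero_of_degree_le_three (by rw [quad_natDegree])
    (by rw [quad_natDegree]; norm_num)]
  refine Multiset.eq_zero_of_forall_notMem fun x hx => ?_
  rw [mem_roots quad_monic.ne_zero, IsRoot, quad] at hx
  simp at hx
  revert hx
  revert x
  decide

instance quad_fact : Fact (Irreducible quad) := ⟨quad_irreducible⟩

variable {K V : Type*} [Group K] [AddCommGroup V] [DistribMulAction K V]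

theorem card_eq_and_dvd [Finite V] (h2 : ∀ v : V, v + v = 0) (p : K)
    (hrel : ∀ v : V, p • p • v + p • v + v = 0) (hc : ∀ k : K, ∀ v : V, k • p • v = p • k • v)
    (hp : p ∈ commutator K) :
    ∃ d : ℕ, Nat.card V = 4 ^ d ∧ 3 ∣ d ∧
      (d = 3 → ∀ k : K, k ^ 11 = 1 → ∀ v : V, k • v = v) := by
  classical
  letI hmod : Module (ZMod 2) V := AddCommGroup.zmodModule fun v => by rw [two_nsmul]; exact h2 v
  let pe : Module.End (ZMod 2) V := (DistribSMul.toAddMonoidHom V p).toZModLinearMap 2
  have hpe : ∀ v, pe v = p • v := fun _ => rfl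
  let φ₀ : (ZMod 2)[X] →ₐ[ZMod 2] Module.End (ZMod 2) V := aeval pe
  have hker : ∀ a ∈ Ideal.span ({quad} : Set (ZMod 2)[X]), φ₀.toRingHom a = 0 := by
    intro a ha
    obtain ⟨b, rfl⟩ := Ideal.mem_span_singleton'.1 ha
    have hq : φ₀ quad = 0 := by
      ext v
      simp [φ₀, quad, pow_two, hpe, hrel v]
    simp [hq]
  let φ : AdjoinRoot quad →+* Module.End (ZMod 2) V := Ideal.Quotient.lift _ φ₀.toRingHom hker
  have hroot : φ (AdjoinRoot.root quad) = pe := by
    show φ₀ X = pe
    simp [φ₀]
  letI : Module (AdjoinRoot quad) V := Module.compHom V φ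
  have hsmul : ∀ (r : AdjoinRoot quad) (v : V), r • v = φ r v := fun _ _ => rfl
  have hF : Nat.card (AdjoinRoot quad) = 4 := by
    have hpb := AdjoinRoot.powerBasis quad_monic.ne_zero
    haveI := (AdjoinRoot.powerBasis quad_monic.ne_zero).finite
    haveI : Finite (AdjoinRoot quad) := Module.finite_of_finite (ZMod 2)
    rw [Module.natCard_eq_pow_finrank (K := ZMod 2),
      (AdjoinRoot.powerBasis quad_monic.ne_zero).finrank, AdjoinRoot.powerBasis_dim, quad_natDegree,
      Nat.card_zmod]
    norm_num
  haveI hFfin : Finite (AdjoinRoot quad) := Nat.finite_of_card_ne_zero (by rw [hF]; norm_num)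
  haveI : Module.Finite (AdjoinRoot quad) V := Module.Finite.of_finite
  -- every element of `K` is linear over the field
  have hlin : ∀ (k : K) (r : AdjoinRoot quad) (v : V), k • r • v = r • k • v := by
    intro k r v
    induction r using AdjoinRoot.induction_on with
    | _ a =>
      show k • φ₀ a v = φ₀ a (k • v)
      induction a using Polynomial.induction_on generalizing v with
      | C c =>
        simp only [φ₀, aeval_C, Module.algebraMap_end_apply]
        rcases (by decide : ∀ c : ZMod 2, c = 0 ∨ c = 1) c with rfl | rfl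
        · simp
        · simp
      | add a b iha ihb => simp [map_add, smul_add, iha v, ihb v]
      | monomial n c ih =>
        rw [pow_succ, ← mul_assoc, map_mul, Module.End.mul_apply, Module.End.mul_apply]
        simp only [φ₀, aeval_X, hpe] at ih ⊢
        rw [← hc k v]
        exact ih (p • v)
  let ρ : K →* (V ≃ₗ[AdjoinRoot quad] V) :=
    { toFun := fun k =>
        { toFun := fun v => k • v
          map_add' := smul_add k
          map_smul' := fun r v => hlin k r v
          invFun := fun v => k⁻¹ • v
          left_inv := fun v => inv_smul_smul k v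
          right_inv := fun v => smul_inv_smul k v }
      map_one' := LinearEquiv.ext fun v => one_smul K v
      map_mul' := fun a b => LinearEquiv.ext fun v => mul_smul a b v }
  set d := Module.finrank (AdjoinRoot quad) V with hd
  have hcard : Nat.card V = 4 ^ d := by
    rw [Module.natCard_eq_pow_finrank (K := AdjoinRoot quad), hF]
  have hdet : LinearEquiv.det (ρ p) = 1 := by
    have hle : commutator K ≤ (LinearEquiv.det.comp ρ).ker := by
      rw [commutator_def, Subgroup.commutator_le]
      intro a _ b _
      rw [MonoidHom.mem_ker, map_commutatorElement, commutatorElement_eq_one_iff_commute]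
      exact Commute.all _ _
    exact hle hp
  have hscal : ((ρ p : V ≃ₗ[AdjoinRoot quad] V) : V →ₗ[AdjoinRoot quad] V) =
      (AdjoinRoot.root quad) • (LinearMap.id : V →ₗ[AdjoinRoot quad] V) := by
    ext v
    show p • v = AdjoinRoot.root quad • v
    rw [hsmul, hroot, hpe]
  have hω : (AdjoinRoot.root quad) ^ d = 1 := by
    have h := congrArg (fun u : (AdjoinRoot quad)ˣ => (u : AdjoinRoot quad)) hdet
    simp only [LinearEquiv.coe_det, Units.val_one, hscal, LinearMap.det_smul, LinearMap.det_id, mul_one] at h
    exact h
  have hr : AdjoinRoot.root quad ^ 2 + AdjoinRoot.root quad + 1 = 0 := by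
    have hq : Polynomial.aeval (AdjoinRoot.root quad) (X ^ 2 + X + 1 : (ZMod 2)[X]) = 0 :=
      (AdjoinRoot.aeval_eq (f := quad) _).trans AdjoinRoot.mk_self
    simpa using hq
  have h3 : (AdjoinRoot.root quad) ^ 3 = 1 := by
    linear_combination (AdjoinRoot.root quad - 1) * hr
  have hne : AdjoinRoot.root quad ≠ 1 := by
    intro e
    rw [e] at hr
    have hn2 : (2 : AdjoinRoot quad) = 0 := by
      rw [show (2 : AdjoinRoot quad) = algebraMap (ZMod 2) _ 2 by simp [map_ofNat],
        show (2 : ZMod 2) = 0 from rfl, map_zero]
    exact one_ne_zero (α := AdjoinRoot quad) (by linear_combination hr - hn2)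
  have hd3 : 3 ∣ d := orderOf_eq_prime h3 hne ▸ orderOf_dvd_of_pow_eq_one hω
  refine ⟨d, hcard, hd3, fun h k hk v => ?_⟩
  haveI : Fintype (AdjoinRoot quad) := Fintype.ofFinite _
  let b := Module.finBasisOfFinrankEq (AdjoinRoot quad) V (hd.symm.trans h)
  let e : (V ≃ₗ[AdjoinRoot quad] V) ≃* GL (Fin 3) (AdjoinRoot quad) :=
    (LinearMap.GeneralLinearGroup.generalLinearEquiv (AdjoinRoot quad) V).symm.trans
      (Units.mapEquiv (LinearMap.toMatrixAlgEquiv b).toMulEquiv)
  have hone : ρ k = 1 := by
    apply e.injective
    rw [map_one, ← orderOf_eq_one_iff]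
    have h11 : orderOf (e (ρ k)) ∣ 11 := orderOf_dvd_of_pow_eq_one (by
      rw [← map_pow, ← map_pow, hk, map_one, map_one])
    have hG : orderOf (e (ρ k)) ∣ 181440 := by
      have := orderOf_dvd_natCard (e (ρ k))
      rwa [Matrix.card_GL_field, ← Nat.card_eq_fintype_card, hF, Fin.prod_univ_three] at this
    exact Nat.dvd_one.1 ((Nat.dvd_gcd h11 hG).trans (by norm_num))
  exact LinearEquiv.congr_fun hone v

end Cfsg.Agent.Lib.J4Bridge14.GF4Det80
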