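import Cfsg.Agent.Lib.J4Type19.Central

/-!
# A group `C` of the shape `2^(1+12).3.Aut(M22)`: the setting
-/

set_option autoImplicit false

namespace Cfsg.Agent.Lib.J4Bridge14

open Cfsg
open Cfsg.Agent.Lib.J4Type19 (M22t m22_card m22_conj_injective)

/-- The data of a group of the shape `2^(1+12).3.Aut(M22)` with a central involution. -/
structure Pre (C : Type*) [Group C] [Finite C] : Type _ where
  z : C
  zc : ∀ x : C, z * x = x * z
  z1 : z ≠ 1
  Q : Subgroup C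
  N : Subgroup C
  Qn : Q.Normal
  hQ : IsExtraspecial 2 ↥Q
  cardQ : Nat.card ↥Q = 2 ^ 13
  self : Subgroup.centralizer (Q : Set C) ≤ Q
  hQN : Q ≤ N
  cardN : Nat.card ↥N = 3 * Nat.card ↥Q
  φ : C →* MulAut M22t
  surj : Function.Surjective φ
  ker : ∀ c : C, φ c = 1 ↔ c ∈ N
  hcent : ∀ m : C, φ m ∈ Inn M22t → ∀ n ∈ N, m * n * m⁻¹ * n⁻¹ ∈ Q
  hperf : Subgroup.comap φ (Inn M22t) ≤
    ⁅Subgroup.comap φ (Inn M22t), Subgroup.comap φ (Inn M22t)⁆ ⊔ Q

namespace Pre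

variable {C : Type*} [Group C] [Finite C] (S : Pre C)

theorem zQ : S.z ∈ S.Q :=
  S.self (Subgroup.mem_centralizer_iff.2 fun x _ => (S.zc x).symm)

theorem z_center : (⟨S.z, S.zQ⟩ : ↥S.Q) ∈ Subgroup.center ↥S.Q :=
  Subgroup.mem_center_iff.2 fun x => Subtype.ext (S.zc (x : C)).symm

theorem center_iff {e : ↥S.Q} : e ∈ Subgroup.center ↥S.Q ↔ (e : C) = 1 ∨ (e : C) = S.z := by
  constructor
  · intro he
    rcases ExtraTwoQ.center_eq_pair (x := e) S.hQ S.z_center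
      (fun h => S.z1 (congrArg Subtype.val h)) he with h | h
    · exact Or.inl (by rw [h]; rfl)
    · exact Or.inr (by rw [h])
  · rintro (h | h)
    · rw [show e = 1 from Subtype.ext h]; exact one_mem _
    · rw [show e = ⟨S.z, S.zQ⟩ from Subtype.ext h]; exact S.z_center

theorem z_sq : S.z * S.z = 1 := by
  have h := ExtraTwoQ.center_sq_eq_one S.hQ S.z_center
  rw [pow_two] at h
  exact congrArg Subtype.val h

theorem Qconj (c : C) {x : C} (hx : x ∈ S.Q) : c * x * c⁻¹ ∈ S.Q := S.Qn.conj_mem x hx c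

theorem Q_pow {x : C} (hx : x ∈ S.Q) : x ^ (2 ^ 13) = 1 := by
  have h : (⟨x, hx⟩ : ↥S.Q) ^ Nat.card ↥S.Q = 1 := pow_card_eq_one'
  rw [S.cardQ] at h
  exact congrArg Subtype.val h

theorem eq_one_of_mem_of_cube {x : C} (hx : x ∈ S.Q) (h3 : x ^ 3 = 1) : x = 1 := by
  have h1 : orderOf x ∣ 2 ^ 13 := orderOf_dvd_of_pow_eq_one (S.Q_pow hx)
  have h2 : orderOf x ∣ 3 := orderOf_dvd_of_pow_eq_one h3
  have := Nat.dvd_gcd h1 h2
  rw [show Nat.gcd (2 ^ 13) 3 = 1 by norm_num, Nat.dvd_one, orderOf_eq_one_iff] at this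
  exact this

theorem eq_one_of_mem_of_three_pow {x : C} (hx : x ∈ S.Q) {k : ℕ} (h3 : x ^ (3 ^ k) = 1) : x = 1 := by
  have h1 : orderOf x ∣ 2 ^ 13 := orderOf_dvd_of_pow_eq_one (S.Q_pow hx)
  have h2 : orderOf x ∣ 3 ^ k := orderOf_dvd_of_pow_eq_one h3
  have := Nat.dvd_gcd h1 h2
  rw [show Nat.gcd (2 ^ 13) (3 ^ k) = 1 from Nat.Coprime.pow 13 k (by decide), Nat.dvd_one,
    orderOf_eq_one_iff] at this
  exact this

/-- The module `Q/Z(Q)`. -/
abbrev V : Type _ := Additive (Abelianization ↥S.Q)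

/-- The class of an element. -/
def cls (e : ↥S.Q) : S.V := Additive.ofMul (Abelianization.of e)

theorem cls_surjective : Function.Surjective S.cls := fun v =>
  (QuotientGroup.mk_surjective (Additive.toMul v)).imp fun _ h => congrArg Additive.ofMul h

theorem cls_mul (e f : ↥S.Q) : S.cls (e * f) = S.cls e + S.cls f :=
  congrArg Additive.ofMul (map_mul Abelianization.of e f)

theorem cls_eq_zero {e : ↥S.Q} : S.cls e = 0 ↔ ((e : C) = 1 ∨ (e : C) = S.z) := by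
  rw [← S.center_iff, ← S.hQ.1.2.2]
  exact (QuotientGroup.eq_one_iff e)

theorem two (v : S.V) : v + v = 0 := by
  obtain ⟨e, rfl⟩ := S.cls_surjective v
  rw [← S.cls_mul, S.cls_eq_zero]
  have := S.center_iff.1 (ExtraTwoQ.sq_mem_center S.hQ e)
  simpa [pow_two] using this

theorem cardV : Nat.card S.V = 2 ^ 12 := by
  have h := (commutator ↥S.Q).card_mul_index
  rw [S.hQ.1.2.2, S.hQ.2, S.cardQ] at h
  have h' : Nat.card S.V = (commutator ↥S.Q).index := by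
    show Nat.card (Abelianization ↥S.Q) = _
    rfl
  rw [h', S.hQ.1.2.2]
  omega

theorem cls_eq {e f : ↥S.Q} : S.cls e = S.cls f ↔ ((f : C) = e ∨ (f : C) = e * S.z) := by
  have h0 : S.cls e = S.cls f ↔ S.cls (e⁻¹ * f) = 0 := by
    have h : S.cls e⁻¹ = - S.cls e := by
      refine eq_neg_of_add_eq_zero_left ?_
      rw [← S.cls_mul, inv_mul_cancel]
      exact S.cls_eq_zero.2 (Or.inl rfl)
    rw [S.cls_mul, h, neg_add_eq_zero]
  rw [h0, S.cls_eq_zero, Subgroup.coe_mul, Subgroup.coe_inv, inv_mul_eq_one, inv_mul_eq_iff_eq_mul, eq_comm]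

/-- Conjugation on `Q`. -/
def qAut (c : C) : ↥S.Q →* ↥S.Q where
  toFun e := ⟨c * (e : C) * c⁻¹, S.Qconj c e.2⟩
  map_one' := Subtype.ext (by simp)
  map_mul' x y := Subtype.ext (by simp [mul_assoc])

/-- The action on the module, as a map. -/
def act (c : C) (v : S.V) : S.V :=
  Additive.ofMul (Abelianization.map (S.qAut c) (Additive.toMul v))

theorem act_cls (c : C) (e : ↥S.Q) : S.act c (S.cls e) = S.cls (S.qAut c e) := rfl

theorem act_one (v : S.V) : S.act 1 v = v := by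
  obtain ⟨e, rfl⟩ := S.cls_surjective v
  rw [S.act_cls]; congr 1; apply Subtype.ext; simp [qAut]

theorem act_mul (c d : C) (v : S.V) : S.act (c * d) v = S.act c (S.act d v) := by
  obtain ⟨e, rfl⟩ := S.cls_surjective v
  rw [S.act_cls, S.act_cls, S.act_cls]; congr 1; apply Subtype.ext; simp [qAut, mul_assoc]

theorem act_add (c : C) (u v : S.V) : S.act c (u + v) = S.act c u + S.act c v := by
  obtain ⟨e, rfl⟩ := S.cls_surjective u
  obtain ⟨f, rfl⟩ := S.cls_surjective v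
  rw [← S.cls_mul, S.act_cls, map_mul, S.cls_mul]; rfl

theorem act_zero (c : C) : S.act c 0 = 0 := by
  have h := S.act_add c 0 0
  rw [add_zero] at h
  exact left_eq_add.1 h

theorem act_Q {x : C} (hx : x ∈ S.Q) (v : S.V) : S.act x v = v := by
  obtain ⟨e, rfl⟩ := S.cls_surjective v
  rw [S.act_cls, eq_comm, S.cls_eq]
  have h := S.center_iff.1 (ExtraTwoQ.comm_mem_center S.hQ ⟨x, hx⟩ e)
  simp only [Subgroup.coe_mul, Subgroup.coe_inv] at h
  rcases h with h | h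
  · exact Or.inl (by rw [mul_inv_eq_one] at h; exact h)
  · right
    show x * (e : C) * x⁻¹ = e * S.z
    rw [mul_inv_eq_iff_eq_mul] at h
    rw [h, S.zc]

/-- The action on the module, as a homomorphism to permutations. -/
def rho : C →* Equiv.Perm S.V where
  toFun c :=
    { toFun := S.act c
      invFun := S.act c⁻¹
      left_inv := fun v => by rw [← S.act_mul, inv_mul_cancel, S.act_one]
      right_inv := fun v => by rw [← S.act_mul, mul_inv_cancel, S.act_one] }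
  map_one' := Equiv.ext fun v => S.act_one v
  map_mul' c d := Equiv.ext fun v => S.act_mul c d v

theorem rho_apply (c : C) (v : S.V) : S.rho c v = S.act c v := rfl

theorem rho_Q {x : C} (hx : x ∈ S.Q) : S.rho x = 1 := Equiv.ext fun v => S.act_Q hx v

theorem exists_p : ∃ p ∈ S.N, p ^ 3 = 1 ∧ p ≠ 1 := by
  have : Fact (Nat.Prime 3) := ⟨Nat.prime_three⟩
  obtain ⟨⟨p, hp⟩, ho⟩ := exists_prime_orderOf_dvd_card' (G := ↥S.N) 3 (by rw [S.cardN]; exact dvd_mul_right 3 _)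
  refine ⟨p, hp, ?_, ?_⟩
  · have := pow_orderOf_eq_one (⟨p, hp⟩ : ↥S.N)
    rw [ho] at this
    exact congrArg Subtype.val this
  · rintro rfl
    rw [show (⟨1, hp⟩ : ↥S.N) = 1 from rfl, orderOf_one] at ho
    norm_num at ho

end Pre

/-- The setting with a chosen element of order three in `N`. -/
structure Frame (C : Type*) [Group C] [Finite C] extends Pre C where
  p : C
  pN : p ∈ N
  p3 : p ^ 3 = 1
  p1 : p ≠ 1

theorem exists_frame {C : Type*} [Group C] [Finite C] (S : Pre C) :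
    ∃ F : Frame C, F.Q = S.Q ∧ F.N = S.N ∧ F.z = S.z := by
  obtain ⟨p, hpN, hp3, hp1⟩ := S.exists_p
  exact ⟨{ toPre := S, p := p, pN := hpN, p3 := hp3, p1 := hp1 }, rfl, rfl, rfl⟩

namespace Frame

variable {C : Type*} [Group C] [Finite C] (F : Frame C)

theorem p_notQ : F.p ∉ F.Q := fun h => F.p1 (F.eq_one_of_mem_of_cube h F.p3)

theorem pinv : F.p⁻¹ = F.p * F.p := inv_eq_of_mul_eq_one_right (by rw [← mul_assoc]; simpa [pow_succ] using F.p3)

theorem pp_notQ : F.p * F.p ∉ F.Q := fun h => F.p_notQ (by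
  have := inv_mem h
  rwa [← F.pinv, inv_inv] at this)

/-- `N = Q⟨p⟩`. -/
theorem N_dec {n : C} (hn : n ∈ F.N) : ∃ q ∈ F.Q, ∃ i : ℕ, n = q * F.p ^ i := by
  let m : ↥F.Q × Fin 3 → ↥F.N := fun w =>
    ⟨(w.1 : C) * F.p ^ (w.2 : ℕ), mul_mem (F.hQN w.1.2) (pow_mem F.pN _)⟩
  have hinj : Function.Injective m := by
    rintro ⟨q, i⟩ ⟨q', j⟩ h
    have h' : (q : C) * F.p ^ (i : ℕ) = q' * F.p ^ (j : ℕ) := congrArg Subtype.val h
    have h1 : ((q' : C))⁻¹ * q = F.p ^ (j : ℕ) * (F.p ^ (i : ℕ))⁻¹ := by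
      rw [inv_mul_eq_iff_eq_mul, ← mul_assoc, eq_mul_inv_iff_mul_eq]; exact h'
    have h3 : (F.p ^ (j : ℕ) * (F.p ^ (i : ℕ))⁻¹) ^ 3 = 1 := by
      rw [((Commute.refl F.p).pow_pow _ _).inv_right.mul_pow, inv_pow, ← pow_mul, ← pow_mul, mul_comm (j : ℕ),
        mul_comm (i : ℕ), pow_mul, pow_mul, F.p3, one_pow, one_pow, inv_one, one_mul]
    have h4 : ((q' : C))⁻¹ * q = 1 :=
      F.eq_one_of_mem_of_cube (mul_mem (inv_mem q'.2) q.2) (by rw [h1]; exact h3)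
    have hq : q = q' := Subtype.ext (inv_mul_eq_one.1 h4).symm
    rw [h4, eq_comm, mul_inv_eq_one] at h1
    have ho : orderOf F.p = 3 := orderOf_eq_prime (hp := ⟨Nat.prime_three⟩) F.p3 F.p1
    rw [pow_eq_pow_iff_modEq, ho] at h1
    exact Prod.ext hq (Fin.ext (Nat.ModEq.eq_of_lt_of_lt h1.symm i.2 j.2))
  have hbij : Function.Bijective m := (Nat.bijective_iff_injective_and_card m).2 ⟨hinj, by
    rw [Nat.card_prod, Nat.card_fin, F.cardN, mul_comm]⟩
  obtain ⟨w, hw⟩ := hbij.2 ⟨n, hn⟩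
  exact ⟨_, w.1.2, _, (congrArg Subtype.val hw).symm⟩

/-- Modulo `Q` every element normalises `⟨p⟩`. -/
theorem frattini (c : C) : ∃ q ∈ F.Q, (q⁻¹ * c) * F.p * (q⁻¹ * c)⁻¹ = F.p ∨
    (q⁻¹ * c) * F.p * (q⁻¹ * c)⁻¹ = F.p⁻¹ := by
  have : Fact (Nat.Prime 3) := ⟨Nat.prime_three⟩
  have hNn : ∀ c : C, ∀ n ∈ F.N, c * n * c⁻¹ ∈ F.N := fun c n hn => by
    rw [← F.ker, map_mul, map_mul, map_inv, (F.ker n).2 hn, mul_one, mul_inv_cancel]
  have ho : orderOf F.p = 3 := orderOf_eq_prime F.p3 F.p1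
  have hf : (Nat.card ↥F.N).factorization 3 = 1 := by
    rw [F.cardN, F.cardQ, Nat.factorization_mul (by norm_num) (by norm_num),
      Nat.Prime.factorization_pow Nat.prime_two, Nat.Prime.factorization Nat.prime_three]
    simp
  have key : ∀ (x : C) (hx : x ∈ F.N), orderOf x = 3 →
      Nat.card ↥(Subgroup.zpowers (⟨x, hx⟩ : ↥F.N)) = 3 ^ (Nat.card ↥F.N).factorization 3 := fun x hx h3 => by
    rw [Nat.card_zpowers, hf, pow_one, Subgroup.orderOf_mk, h3]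
  let S1 : Sylow 3 ↥F.N := Sylow.ofCard _ (key F.p F.pN ho)
  let S2 : Sylow 3 ↥F.N := Sylow.ofCard _ (key (c * F.p * c⁻¹) (hNn c _ F.pN)
    (by rw [← ho]; exact orderOf_injective (MulAut.conj c).toMonoidHom (MulAut.conj c).injective F.p))
  obtain ⟨⟨n, hn⟩, hn'⟩ := MulAction.exists_smul_eq ↥F.N S1 S2
  have hmem : (⟨c * F.p * c⁻¹, hNn c _ F.pN⟩ : ↥F.N) ∈ (S2 : Subgroup ↥F.N) := Subgroup.mem_zpowers _
  rw [← hn', Sylow.coe_subgroup_smul] at hmem
  obtain ⟨x, hx, hxe⟩ := hmem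
  obtain ⟨k, rfl⟩ := Subgroup.mem_zpowers_iff.1 hx
  have hx' : n * F.p ^ k * n⁻¹ = c * F.p * c⁻¹ := congrArg Subtype.val hxe
  obtain ⟨q, hq, i, rfl⟩ := F.N_dec hn
  refine ⟨q, hq, ?_⟩
  have hc : q⁻¹ * c * F.p * (q⁻¹ * c)⁻¹ = F.p ^ k := by
    calc q⁻¹ * c * F.p * (q⁻¹ * c)⁻¹ = q⁻¹ * (c * F.p * c⁻¹) * q := by group
      _ = F.p ^ i * F.p ^ k * (F.p ^ i)⁻¹ := by rw [← hx']; group
      _ = F.p ^ k := by
        rw [((Commute.refl F.p).zpow_right k).pow_left i |>.eq, mul_inv_cancel_right]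
  rw [hc]
  have hk : F.p ^ k = F.p ^ (k % 3) := by
    rw [← zpow_mod_orderOf, ho]; rfl
  have hk1 : k % 3 = 0 ∨ k % 3 = 1 ∨ k % 3 = 2 := by omega
  rcases hk1 with h | h | h
  · exfalso
    rw [hk, h, zpow_zero, conj_eq_one_iff] at hc
    exact F.p1 hc
  · exact Or.inl (by rw [hk, h, zpow_one])
  · exact Or.inr (by rw [hk, h, F.pinv, zpow_two])

/-- The centraliser of `p` in the preimage of the inner automorphisms. -/
def D : Subgroup C where
  carrier := {d | F.φ d ∈ Inn M22t ∧ Commute d F.p}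
  one_mem' := ⟨by rw [map_one]; exact one_mem _, Commute.one_left _⟩
  mul_mem' := fun {x y} hx hy => ⟨by rw [map_mul]; exact mul_mem hx.1 hy.1, hx.2.mul_left hy.2⟩
  inv_mem' := fun {x} hx => ⟨by rw [map_inv]; exact inv_mem hx.1, hx.2.inv_left⟩

theorem mem_D {d : C} : d ∈ F.D ↔ F.φ d ∈ Inn M22t ∧ Commute d F.p := Iff.rfl

theorem pD : F.p ∈ F.D := ⟨by rw [(F.ker _).2 F.pN]; exact one_mem _, Commute.refl _⟩

theorem exists_dec {m : C} (hm : F.φ m ∈ Inn M22t) : ∃ q ∈ F.Q, q⁻¹ * m ∈ F.D := by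
  obtain ⟨q, hq, h⟩ := F.frattini m
  have hφ : F.φ (q⁻¹ * m) = F.φ m := by
    rw [map_mul, map_inv, (F.ker q).2 (F.hQN hq), inv_one, one_mul]
  rcases h with h | h
  · exact ⟨q, hq, hφ ▸ hm, by rw [mul_inv_eq_iff_eq_mul] at h; exact h⟩
  · exfalso
    have := F.hcent (q⁻¹ * m) (hφ ▸ hm) F.p F.pN
    rw [h, ← mul_inv_rev] at this
    exact F.pp_notQ (inv_mem_iff.1 this)

theorem exists_pi : ∃ π : ↥F.D →* M22t, Function.Surjective π ∧
    ∀ d : ↥F.D, MulAut.conj (π d) = F.φ (d : C) := by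
  have hmem : ∀ d : ↥F.D, ∃ m : M22t, MulAut.conj m = F.φ (d : C) := fun d => d.2.1
  choose π hπ using hmem
  refine ⟨MonoidHom.mk' π fun c c' => m22_conj_injective
    (by rw [map_mul, hπ, hπ, hπ, Subgroup.coe_mul, map_mul]), fun m => ?_, hπ⟩
  obtain ⟨c, hc⟩ := F.surj (MulAut.conj m)
  obtain ⟨q, hq, hd⟩ := F.exists_dec (m := c) (hc ▸ ⟨m, rfl⟩)
  refine ⟨⟨q⁻¹ * c, hd⟩, m22_conj_injective ?_⟩
  show MulAut.conj (π ⟨q⁻¹ * c, hd⟩) = _
  rw [hπ, map_mul, map_inv, (F.ker q).2 (F.hQN hq), inv_one, one_mul, hc]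

theorem ker_pi {π : ↥F.D →* M22t} (hπ : ∀ d : ↥F.D, MulAut.conj (π d) = F.φ (d : C)) (d : ↥F.D) :
    π d = 1 ↔ ∃ f ∈ F.Q, Commute f F.p ∧ ∃ i : ℕ, (d : C) = f * F.p ^ i := by
  constructor
  · intro h
    have h1 : F.φ (d : C) = 1 := by rw [← hπ, h, map_one]
    obtain ⟨f, hf, i, he⟩ := F.N_dec ((F.ker _).1 h1)
    refine ⟨f, hf, ?_, i, he⟩
    have : f = (d : C) * (F.p ^ i)⁻¹ := by rw [he, mul_inv_cancel_right]
    rw [this]
    exact d.2.2.mul_left (((Commute.refl F.p).pow_left i).inv_left)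
  · rintro ⟨f, hf, -, i, he⟩
    apply m22_conj_injective
    rw [map_one, hπ, F.ker, he]
    exact mul_mem (F.hQN hf) (pow_mem F.pN i)

/-- The element `p` is a commutator element of `D`. -/
theorem p_mem_commutator : F.p ∈ ⁅F.D, F.D⁆ := by
  have := F.Qn
  have hle : Subgroup.comap F.φ (Inn M22t) ≤ F.D ⊔ F.Q := fun m hm => by
    obtain ⟨q, hq, hd⟩ := F.exists_dec hm
    rw [show m = q * (q⁻¹ * m) by group]
    exact mul_mem (Subgroup.mem_sup_right hq) (Subgroup.mem_sup_left hd)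
  obtain ⟨g, hg⟩ : ∃ g, g = QuotientGroup.mk' F.Q := ⟨_, rfl⟩
  have hQg : F.Q.map g = ⊥ := by rw [hg, QuotientGroup.map_mk'_self]
  have hMg : (Subgroup.comap F.φ (Inn M22t)).map g ≤ F.D.map g := by
    refine le_trans (Subgroup.map_mono hle) ?_
    rw [Subgroup.map_sup, hQg, sup_bot_eq]
  have hp : F.p ∈ Subgroup.comap F.φ (Inn M22t) := F.pD.1
  have h1 : g F.p ∈ ⁅F.D, F.D⁆.map g := by
    have h := Subgroup.mem_map_of_mem g (F.hperf hp)
    rw [Subgroup.map_sup, hQg, sup_bot_eq, Subgroup.map_commutator] at h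
    rw [Subgroup.map_commutator]
    exact Subgroup.commutator_mono hMg hMg h
  obtain ⟨d, hd, hde⟩ := h1
  rw [hg] at hde
  have hq : d⁻¹ * F.p ∈ F.Q := QuotientGroup.eq.1 hde
  have hdD : d ∈ F.D := Subgroup.commutator_le_self F.D hd
  have hc : Commute d (d⁻¹ * F.p) := (Commute.refl d).inv_right.mul_right hdD.2
  have h2 : F.p ^ (2 ^ 13) = d ^ (2 ^ 13) := by
    conv_lhs => rw [← mul_inv_cancel_left d F.p]
    rw [hc.mul_pow, F.Q_pow hq, mul_one]
  have h3 : F.p ^ (2 ^ 13 * 2) = F.p := by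
    rw [show (2 ^ 13 * 2 : ℕ) = 3 * 5461 + 1 by norm_num, pow_succ, pow_mul, F.p3, one_pow, one_mul]
  rw [← h3, pow_mul, h2]
  exact pow_mem (pow_mem hd _) _

end Frame

end Cfsg.Agent.Lib.J4Bridge14
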