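import Cfsg.Agent.Lib.J4Bridge14.Bridge
import Cfsg.Agent.Lib.CharTwo.Local
import Cfsg.Prelude.Def_MonsterType

/-!
# The two shapes of hypotheses on the centraliser
-/

set_option autoImplicit false

namespace Cfsg.Agent.Lib.J4Bridge14

open Cfsg
open scoped commutatorElement
open Cfsg.Agent.Lib.J4Type19 (M22t m22_card m22_conj_injective m22_finite)

theorem commutator_m22_eq_top : ⁅(⊤ : Subgroup M22t), (⊤ : Subgroup M22t)⁆ = ⊤ := by
  obtain ⟨F⟩ := Cfsg.Agent.Lib.J4Type19.exists_mFacts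
  have := F.simple
  rcases (Subgroup.commutator_normal (⊤ : Subgroup M22t) ⊤).eq_bot_or_eq_top with h | h
  · exfalso
    have hab : ∀ u v : M22t, ⁅u, v⁆ = 1 := fun u v =>
      Subgroup.mem_bot.1 (h ▸ Subgroup.commutator_mem_commutator (Subgroup.mem_top u) (Subgroup.mem_top v))
    have : F.y * F.a * F.y⁻¹ = F.a := by
      rw [commutatorElement_eq_one_iff_mul_comm.1 (hab F.y F.a), mul_inv_cancel_right]
    exact F.ba this
  · exact h

variable {G : Type*} [Group G] [Finite G] {t : G}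

/-- The shape with a middle subgroup `M` of index two. -/
theorem exists_pre_of_middle (ht : orderOf t = 2) (Q N M : Subgroup ↥(Subgroup.centralizer ({t} : Set G)))
    [Q.Normal] [N.Normal] [M.Normal] (hQN : Q ≤ N) (hNM : N ≤ M) (hM : M.index = 2)
    (hQ : Cfsg.IsExtraspecial 2 Q) (hcard : Nat.card Q = 2 ^ 13) (hN : Nat.card N = 3 * Nat.card Q)
    (hcent : ⁅M, N⁆ ≤ Q) (hperf : M ≤ ⁅M, M⁆ ⊔ Q)
    (h2c : Subgroup.centralizer (Q : Set (Subgroup.centralizer ({t} : Set G))) ≤ Q)
    (hout : ∀ c : Subgroup.centralizer ({t} : Set G), (∀ m ∈ M, c * m * c⁻¹ * m⁻¹ ∈ N) → c ∈ M)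
    (hM22 : Cfsg.Spor.IsoM22 (M ⧸ N.subgroupOf M)) :
    ∃ S : Pre ↥(Subgroup.centralizer ({t} : Set G)), (S.z : G) = t := by
  classical
  obtain ⟨iso⟩ := hM22
  have hNsub : ∀ c : ↥(Subgroup.centralizer ({t} : Set G)),
      (N.subgroupOf M).map (MulAut.conjNormal c : MulAut ↥M).toMonoidHom = N.subgroupOf M := by
    intro c
    ext ⟨m, hm⟩
    constructor
    · rintro ⟨⟨w, hw⟩, hwN, he⟩
      rw [← he]
      show (((MulAut.conjNormal c : MulAut ↥M) ⟨w, hw⟩ : ↥M) : ↥(Subgroup.centralizer ({t} : Set G))) ∈ N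
      rw [MulAut.conjNormal_apply]
      exact (inferInstance : N.Normal).conj_mem w hwN c
    · intro hmN
      refine ⟨⟨c⁻¹ * m * c⁻¹⁻¹, (inferInstance : M.Normal).conj_mem m hm _⟩,
        (inferInstance : N.Normal).conj_mem m hmN c⁻¹, ?_⟩
      apply Subtype.ext
      show (((MulAut.conjNormal c : MulAut ↥M) _ : ↥M) : ↥(Subgroup.centralizer ({t} : Set G))) = m
      rw [MulAut.conjNormal_apply]
      group
  let f : ↥(Subgroup.centralizer ({t} : Set G)) → MulAut M22t := fun c =>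
    (iso.symm.trans (QuotientGroup.congr (N.subgroupOf M) (N.subgroupOf M) (MulAut.conjNormal c) (hNsub c))).trans iso
  have hf : ∀ c (m : ↥M), f c (iso (QuotientGroup.mk m)) =
      iso (QuotientGroup.mk ((MulAut.conjNormal c : MulAut ↥M) m)) := fun c m => by
    show iso (QuotientGroup.congr (N.subgroupOf M) (N.subgroupOf M) (MulAut.conjNormal c) (hNsub c) (iso.symm (iso (QuotientGroup.mk m)))) = _
    rw [iso.symm_apply_apply]
    rfl
  have hsurjmk : ∀ x : M22t, ∃ m : ↥M, iso (QuotientGroup.mk m) = x := fun x => by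
    obtain ⟨m, hm⟩ := QuotientGroup.mk_surjective (iso.symm x)
    exact ⟨m, by rw [hm, iso.apply_symm_apply]⟩
  let φ : ↥(Subgroup.centralizer ({t} : Set G)) →* MulAut M22t :=
    MonoidHom.mk' f fun c d => MulEquiv.ext fun x => by
      obtain ⟨m, rfl⟩ := hsurjmk x
      rw [MulAut.mul_apply, hf, hf, hf, map_mul, MulAut.mul_apply]
  have hφM : ∀ m : ↥M, φ (m : ↥(Subgroup.centralizer ({t} : Set G))) = MulAut.conj (iso (QuotientGroup.mk m)) := by
    intro m
    refine MulEquiv.ext fun x => ?_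
    obtain ⟨w, rfl⟩ := hsurjmk x
    show f _ _ = _
    rw [hf, MulAut.conj_apply, ← map_mul, ← map_inv, ← map_mul, ← QuotientGroup.mk_inv, ← QuotientGroup.mk_mul,
      ← QuotientGroup.mk_mul]
    congr 2
  have hker1 : ∀ c, φ c = 1 → c ∈ M := fun c hc => by
    refine hout c fun m hm => ?_
    have h := DFunLike.congr_fun hc (iso (QuotientGroup.mk ⟨m, hm⟩))
    change f c _ = _ at h
    rw [hf, MulAut.one_apply] at h
    have h2 := (QuotientGroup.eq.1 (iso.injective h).symm)
    have h3 : m⁻¹ * (c * m * c⁻¹) ∈ N := by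
      have := Subgroup.mem_subgroupOf.1 h2
      simpa [MulAut.conjNormal_apply] using this
    have h4 := (inferInstance : N.Normal).conj_mem _ h3 m
    rw [show c * m * c⁻¹ * m⁻¹ = m * (m⁻¹ * (c * m * c⁻¹)) * m⁻¹ by group]
    exact h4
  have hker : ∀ c, φ c = 1 ↔ c ∈ N := by
    intro c
    constructor
    · intro hc
      have h := hφM ⟨c, hker1 c hc⟩
      rw [hc, ← map_one (MulAut.conj : M22t →* MulAut M22t)] at h
      have h2 := iso.injective ((m22_conj_injective h).symm.trans (map_one iso).symm)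
      exact Subgroup.mem_subgroupOf.1 ((QuotientGroup.eq_one_iff _).1 h2)
    · intro hc
      have h : (QuotientGroup.mk (⟨c, hNM hc⟩ : ↥M) : ↥M ⧸ N.subgroupOf M) = 1 :=
        (QuotientGroup.eq_one_iff _).2 hc
      exact (hφM ⟨c, hNM hc⟩).trans (by rw [h, map_one, map_one])
  have hcom : Subgroup.comap φ (Inn M22t) = M := by
    refine le_antisymm (fun c hc => ?_) (fun c hc => ⟨_, (hφM ⟨c, hc⟩).symm⟩)
    obtain ⟨x, hx⟩ := hc
    obtain ⟨m, rfl⟩ := hsurjmk x
    have h1 : φ ((m : ↥(Subgroup.centralizer ({t} : Set G)))⁻¹ * c) = 1 := by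
      rw [map_mul, map_inv, hφM, hx, inv_mul_cancel]
    simpa using mul_mem m.2 (hker1 _ h1)
  have hsurj : Function.Surjective φ := by
    rw [← MonoidHom.range_eq_top]
    have hle : Inn M22t ≤ φ.range := by
      rintro _ ⟨x, rfl⟩
      obtain ⟨m, rfl⟩ := hsurjmk x
      exact ⟨(m : ↥(Subgroup.centralizer ({t} : Set G))), hφM m⟩
    have hd : φ.range.index ∣ 2 := by
      rw [← (Compute.Mathieu.card_out_M22 : (Inn M22t).index = 2)]
      exact Subgroup.index_dvd_of_le hle
    rcases (Nat.dvd_prime Nat.prime_two).1 hd with h | h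
    · exact Subgroup.index_eq_one.1 h
    · exfalso
      have hR := Cfsg.Agent.Lib.J4Type19.range_eq_inn φ.range h
      have htop : M = ⊤ := hcom ▸ eq_top_iff.2 fun c _ => hR.le ⟨c, rfl⟩
      rw [htop, Subgroup.index_top] at hM
      omega
  refine ⟨{ z := ⟨t, Subgroup.mem_centralizer_singleton_iff.2 rfl⟩
            zc := fun x => Subtype.ext (Subgroup.mem_centralizer_singleton_iff.1 x.2).symm
            z1 := fun h => by
              have : t = 1 := congrArg Subtype.val h
              rw [this, orderOf_one] at ht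
              omega
            Q := Q, N := N, Qn := inferInstance, hQ := hQ, cardQ := hcard, self := h2c, hQN := hQN, cardN := hN
            φ := φ, surj := hsurj, ker := hker
            hcent := fun m hm n hn => hcent (Subgroup.commutator_mem_commutator (hcom.le hm) hn)
            hperf := by rw [hcom]; exact hperf }, rfl⟩

/-- The shape with `F* = Q` and a non-complemented `N/Q`. -/
theorem exists_pre_of_aut (Q N : Subgroup ↥(Subgroup.centralizer ({t} : Set G))) [Q.Normal] [N.Normal]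
    (hS : Cfsg.IsExtraspecialCentralizerSetting t Q 6) (hQN : Q ≤ N) (hN3 : Nat.card ↥N = 3 * Nat.card ↥Q)
    (hns : ∀ K : Subgroup ↥(Subgroup.centralizer ({t} : Set G)), K ⊓ N = Q → K ⊔ N = ⊤ → False)
    (hAut : Nonempty (↥(Subgroup.centralizer ({t} : Set G)) ⧸ N ≃* MulAut ↥Cfsg.Spor.M22)) :
    ∃ S : Pre ↥(Subgroup.centralizer ({t} : Set G)), (S.z : G) = t := by
  classical
  obtain ⟨ht, hF, hQ, hcard, -⟩ := hS
  obtain ⟨iso⟩ := hAut
  obtain ⟨φ, hφ⟩ : ∃ φ, φ = iso.toMonoidHom.comp (QuotientGroup.mk' N) := ⟨_, rfl⟩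
  have hker : ∀ c, φ c = 1 ↔ c ∈ N := fun c => by
    rw [hφ]
    exact (map_eq_one_iff iso iso.injective).trans (QuotientGroup.eq_one_iff c)
  have hsurj : Function.Surjective φ := hφ ▸ iso.surjective.comp (QuotientGroup.mk'_surjective _)
  have h2c : Subgroup.centralizer (Q : Set ↥(Subgroup.centralizer ({t} : Set G))) ≤ Q := by
    rw [← hF]
    exact Components.centralizer_generalizedFittingSubgroup_le
  obtain ⟨M, hMdef⟩ : ∃ M, M = Subgroup.comap φ (Inn M22t) := ⟨_, rfl⟩
  have hNM : N ≤ M := fun c hc => by rw [hMdef, Subgroup.mem_comap, (hker c).2 hc]; exact one_mem _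
  have hMn : M.Normal := hMdef ▸ (inferInstance : (Inn M22t).Normal).comap φ
  have hMimg : M.map φ = Inn M22t := hMdef ▸ Subgroup.map_comap_eq_self_of_surjective hsurj _
  -- `[M, N] ≤ Q`
  have hcent : ∀ m : ↥(Subgroup.centralizer ({t} : Set G)), φ m ∈ Inn M22t → ∀ n ∈ N,
      m * n * m⁻¹ * n⁻¹ ∈ Q := by
    obtain ⟨q, hq⟩ : ∃ q, q = QuotientGroup.mk' Q := ⟨_, rfl⟩
    have hq1 : ∀ x, q x = 1 ↔ x ∈ Q := fun x => by rw [hq]; exact QuotientGroup.eq_one_iff x
    intro m hm n hn
    by_cases hnQ : n ∈ Q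
    · rw [show m * n * m⁻¹ * n⁻¹ = (m * n * m⁻¹) * n⁻¹ by group]
      exact mul_mem ((inferInstance : Q.Normal).conj_mem n hnQ m) (inv_mem hnQ)
    have : Fact (Nat.Prime 3) := ⟨Nat.prime_three⟩
    have hcN : Nat.card ↥(N.map q) = 3 := by
      let g : ↥N →* ↥(N.map q) := q.subgroupMap N
      have h := g.ker.card_mul_index
      rw [Subgroup.index_ker, MonoidHom.range_eq_top.2 (q.subgroupMap_surjective N), Subgroup.card_top,
        show g.ker = Q.subgroupOf N by
          ext w; exact (Subtype.ext_iff.trans (hq1 _)),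
        Nat.card_congr (Subgroup.subgroupOfEquivOfLe hQN).toEquiv, hN3, mul_comm 3] at h
      exact Nat.eq_of_mul_eq_mul_left (by rw [hcard]; positivity) h
    have hzp : N.map q = Subgroup.zpowers (q n) := by
      symm
      refine Subgroup.eq_of_le_of_card_ge (Subgroup.zpowers_le.2 ⟨n, hn, rfl⟩) ?_
      rw [hcN, Nat.card_zpowers]
      have h3 : orderOf (q n) ∣ 3 := hcN ▸ Subgroup.orderOf_dvd_natCard _ ⟨n, hn, rfl⟩
      rcases (Nat.dvd_prime Nat.prime_three).1 h3 with h | h
      · exact absurd ((hq1 n).1 (orderOf_eq_one_iff.1 h)) hnQ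
      · exact h.ge
    have ho : orderOf (q n) = 3 := by rw [← Nat.card_zpowers, ← hzp, hcN]
    have hconj : ∀ c, q c * q n * (q c)⁻¹ = q n ∨ q c * q n * (q c)⁻¹ = (q n)⁻¹ := by
      intro c
      have h : q (c * n * c⁻¹) ∈ N.map q := ⟨_, (inferInstance : N.Normal).conj_mem n hn c, rfl⟩
      rw [hzp, map_mul, map_mul, map_inv] at h
      obtain ⟨k, hk⟩ := Subgroup.mem_zpowers_iff.1 h
      rw [← hk, ← zpow_mod_orderOf, ho]
      have hk' : k % 3 = 0 ∨ k % 3 = 1 ∨ k % 3 = 2 := by omega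
      rcases hk' with e | e | e
      · exfalso
        have : (q n) ^ k = 1 := by rw [← zpow_mod_orderOf, ho]; simp [e]
        rw [hk, conj_eq_one_iff] at this
        exact hnQ ((hq1 n).1 this)
      · left; simp [e]
      · right
        refine eq_inv_of_mul_eq_one_left ?_
        rw [show ((3 : ℕ) : ℤ) = 3 from rfl, e, ← zpow_add_one, show (2 : ℤ) + 1 = ((3 : ℕ) : ℤ) from rfl, zpow_natCast,
          ← ho, pow_orderOf_eq_one]
    let K : Subgroup ↥(Subgroup.centralizer ({t} : Set G)) :=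
      M ⊓ (Subgroup.centralizer ({q n} : Set _)).comap q
    have hKmem : ∀ c, c ∈ M → q c * q n * (q c)⁻¹ = q n → c ∈ K := fun c hc h =>
      Subgroup.mem_inf.2 ⟨hc, Subgroup.mem_centralizer_singleton_iff.2 (mul_inv_eq_iff_eq_mul.1 h)⟩
    have hsq : ∀ c ∈ M, c * c ∈ K := fun c hc => hKmem _ (mul_mem hc hc) (by
      rw [map_mul, show q c * q c * q n * (q c * q c)⁻¹ = q c * (q c * q n * (q c)⁻¹) * (q c)⁻¹ by group]
      rcases hconj c with h | h
      · rw [h, h]
      · rw [h, ← conj_inv, h, inv_inv])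
    obtain ⟨Fm⟩ := Cfsg.Agent.Lib.J4Type19.exists_mFacts
    have := Fm.simple
    obtain ⟨L, hL⟩ : ∃ L, L = (K.map φ).comap (MulAut.conj : M22t →* MulAut M22t) := ⟨_, rfl⟩
    have hsqL : ∀ x : M22t, x * x ∈ L := fun x => by
      obtain ⟨c, hc⟩ := hsurj (MulAut.conj x)
      rw [hL, Subgroup.mem_comap]
      exact ⟨c * c, hsq c (by rw [hMdef, Subgroup.mem_comap, hc]; exact ⟨x, rfl⟩), by rw [map_mul, map_mul, hc]⟩
    have hLtop : L = ⊤ := by
      have hSn : (Subgroup.closure {w : M22t | ∃ x, w = x * x}).Normal := by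
        refine ⟨fun w hw g => ?_⟩
        induction hw using Subgroup.closure_induction with
        | mem v hv =>
          obtain ⟨x, rfl⟩ := hv
          exact Subgroup.subset_closure ⟨g * x * g⁻¹, by group⟩
        | one => simp
        | mul u v _ _ ihu ihv => rw [← conj_mul]; exact mul_mem ihu ihv
        | inv u _ ihu => rw [← conj_inv]; exact inv_mem ihu
      rcases hSn.eq_bot_or_eq_top with h | h
      · exfalso
        have h2 : Fm.a * Fm.a = 1 :=
          Subgroup.mem_bot.1 (h ▸ Subgroup.subset_closure ⟨Fm.a, rfl⟩)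
        have h3 := Fm.a3
        rw [pow_succ, pow_two, h2, one_mul] at h3
        exact Fm.a1 h3
      · exact eq_top_iff.2 (h ▸ (Subgroup.closure_le _).2 (by rintro _ ⟨x, rfl⟩; exact hsqL x))
    obtain ⟨x, hx⟩ := hm
    have hxL : x ∈ L := hLtop ▸ Subgroup.mem_top x
    rw [hL, Subgroup.mem_comap] at hxL
    obtain ⟨k, hk, hke⟩ := hxL
    have h1 : φ (k⁻¹ * m) = 1 := by rw [map_mul, map_inv, hke, hx, inv_mul_cancel]
    have hnm : q (k⁻¹ * m) * q n * (q (k⁻¹ * m))⁻¹ = q n := by
      have hmem : q (k⁻¹ * m) ∈ Subgroup.zpowers (q n) := hzp ▸ ⟨_, (hker _).1 h1, rfl⟩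
      obtain ⟨j, hj⟩ := Subgroup.mem_zpowers_iff.1 hmem
      rw [← hj, ((Commute.refl (q n)).zpow_left j).eq, mul_inv_cancel_right]
    have hkc : q k * q n * (q k)⁻¹ = q n := by
      rw [Subgroup.mem_centralizer_singleton_iff.1 (Subgroup.mem_inf.1 hk).2, mul_inv_cancel_right]
    rw [← hq1, map_mul, map_mul, map_mul, map_inv, map_inv, mul_inv_eq_one]
    have hmk : q m = q k * q (k⁻¹ * m) := by rw [← map_mul, mul_inv_cancel_left]
    rw [hmk, show q k * q (k⁻¹ * m) * q n * (q k * q (k⁻¹ * m))⁻¹ =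
      q k * (q (k⁻¹ * m) * q n * (q (k⁻¹ * m))⁻¹) * (q k)⁻¹ by group, hnm, hkc]
  -- `M ≤ [M, M] Q`
  have hperf : M ≤ ⁅M, M⁆ ⊔ Q := by
    obtain ⟨K0, hK0⟩ : ∃ K0, K0 = ⁅M, M⁆ ⊔ Q := ⟨_, rfl⟩
    rw [← hK0]
    have hK0M : K0 ≤ M := hK0 ▸ sup_le (Subgroup.commutator_le_self M) (hQN.trans hNM)
    have hK0n : K0.Normal := hK0 ▸ inferInstance
    have hK0φ : ∀ x ∈ Inn M22t, ∃ k ∈ K0, φ k = x := by
      intro x hx
      have h : Inn M22t ≤ K0.map φ := by
        have h1 : ⁅M, M⁆.map φ = ⁅Inn M22t, Inn M22t⁆ := by rw [Subgroup.map_commutator, hMimg]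
        have h2 : ⁅Inn M22t, Inn M22t⁆ = Inn M22t := by
          show ⁅(MulAut.conj : M22t →* MulAut M22t).range, (MulAut.conj : M22t →* MulAut M22t).range⁆ = _
          rw [MonoidHom.range_eq_map, ← Subgroup.map_commutator, commutator_m22_eq_top, ← MonoidHom.range_eq_map]
        rw [← h2, ← h1, hK0]
        exact Subgroup.map_mono le_sup_left
      exact h hx
    by_cases hNK : N ≤ K0
    · intro m hm
      obtain ⟨k, hk, hke⟩ := hK0φ (φ m) (hMimg ▸ Subgroup.mem_map_of_mem φ hm)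
      have : k⁻¹ * m ∈ N := (hker _).1 (by rw [map_mul, map_inv, hke, inv_mul_cancel])
      simpa using mul_mem hk (hNK this)
    exfalso
    have hQK : Q ≤ K0 := hK0 ▸ le_sup_right
    have hint : K0 ⊓ N = Q := by
      symm
      refine Subgroup.eq_of_le_of_card_ge (le_inf hQK hQN) ?_
      have h1 := Subgroup.card_dvd_of_le (inf_le_right : K0 ⊓ N ≤ N)
      have h2 := Subgroup.card_dvd_of_le (le_inf hQK hQN : Q ≤ K0 ⊓ N)
      rw [hN3] at h1
      obtain ⟨r, hr⟩ := h2
      rw [hr, mul_comm 3] at h1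
      have hr3 : r ∣ 3 := Nat.dvd_of_mul_dvd_mul_left (by rw [hcard]; positivity) h1
      rcases (Nat.dvd_prime Nat.prime_three).1 hr3 with rfl | rfl
      · rw [hr, mul_one]
      · exfalso
        apply hNK
        have : K0 ⊓ N = N := Subgroup.eq_of_le_of_card_ge inf_le_right (by rw [hr, hN3, mul_comm])
        exact inf_eq_right.1 this
    obtain ⟨g, hg⟩ : ∃ g, g = QuotientGroup.mk' K0 := ⟨_, rfl⟩
    have hg1 : ∀ x, g x = 1 ↔ x ∈ K0 := fun x => by rw [hg]; exact QuotientGroup.eq_one_iff x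
    have h2 : 2 ∣ Nat.card (↥(Subgroup.centralizer ({t} : Set G)) ⧸ K0) := by
      have hidx : M.index = 2 := by
        rw [hMdef, Subgroup.index_comap_of_surjective _ hsurj]
        exact Compute.Mathieu.card_out_M22
      rw [← Subgroup.index_eq_card, ← hidx]
      exact Subgroup.index_dvd_of_le hK0M
    have : Fact (Nat.Prime 2) := ⟨Nat.prime_two⟩
    obtain ⟨y, hy⟩ := exists_prime_orderOf_dvd_card' 2 h2
    obtain ⟨c, rfl⟩ := QuotientGroup.mk'_surjective K0 y
    rw [← hg] at hy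
    have hcM : c ∉ M := by
      intro hc
      obtain ⟨k, hk, hke⟩ := hK0φ (φ c) (hMimg ▸ Subgroup.mem_map_of_mem φ hc)
      have hn : k⁻¹ * c ∈ N := (hker _).1 (by rw [map_mul, map_inv, hke, inv_mul_cancel])
      have hgc : g c = g (k⁻¹ * c) := by rw [map_mul, map_inv, (hg1 k).2 hk, inv_one, one_mul]
      have h3 : orderOf (g c) ∣ 3 := by
        rw [hgc]
        have hcN : Nat.card ↥(N.map g) = 3 := by
          have h := (g.subgroupMap N).ker.card_mul_index
          rw [Subgroup.index_ker, MonoidHom.range_eq_top.2 (g.subgroupMap_surjective N), Subgroup.card_top,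
            show (g.subgroupMap N).ker = Q.subgroupOf N by
              ext w
              refine Subtype.ext_iff.trans ((hg1 _).trans ?_)
              exact ⟨fun h => hint.le ⟨h, w.2⟩, fun h => hQK h⟩,
            Nat.card_congr (Subgroup.subgroupOfEquivOfLe hQN).toEquiv, hN3, mul_comm 3] at h
          exact Nat.eq_of_mul_eq_mul_left (by rw [hcard]; positivity) h
        exact hcN ▸ Subgroup.orderOf_dvd_natCard _ ⟨_, hn, rfl⟩
      rw [hy] at h3
      norm_num at h3
    refine hns ((Subgroup.zpowers (g c)).comap g) (le_antisymm ?_ (le_inf ?_ hQN)) (eq_top_iff.2 fun x _ => ?_)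
    · intro x hx
      obtain ⟨hx, hxN⟩ := Subgroup.mem_inf.1 hx
      obtain ⟨j, hj⟩ := Subgroup.mem_zpowers_iff.1 (Subgroup.mem_comap.1 hx)
      rw [← zpow_mod_orderOf, hy] at hj
      have hj' : j % 2 = 0 ∨ j % 2 = 1 := by omega
      rcases hj' with e | e
      · refine hint.le ⟨(hg1 x).1 ?_, hxN⟩
        rw [← hj]; simp [e]
      · exfalso
        apply hcM
        have hgx : g (c⁻¹ * x) = 1 := by
          rw [map_mul, map_inv, ← hj]; simp [e]
        simpa using mul_mem (hNM hxN) (inv_mem (hK0M ((hg1 _).1 hgx)))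
    · intro x hx
      rw [Subgroup.mem_comap, (hg1 x).2 (hQK hx)]
      exact one_mem _
    · have hMle : M ≤ (Subgroup.zpowers (g c)).comap g ⊔ N := fun m hm => by
        obtain ⟨k, hk, hke⟩ := hK0φ (φ m) (hMimg ▸ Subgroup.mem_map_of_mem φ hm)
        have hn : k⁻¹ * m ∈ N := (hker _).1 (by rw [map_mul, map_inv, hke, inv_mul_cancel])
        have hk' : k ∈ (Subgroup.zpowers (g c)).comap g := by
          rw [Subgroup.mem_comap, (hg1 k).2 hk]; exact one_mem _
        simpa using Subgroup.mul_mem_sup hk' hn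
      by_cases hx : x ∈ M
      · exact hMle hx
      · have hidx : M.index = 2 := by
          rw [hMdef, Subgroup.index_comap_of_surjective _ hsurj]
          exact Compute.Mathieu.card_out_M22
        have hcx : c⁻¹ * x ∈ M := by
          rw [Subgroup.mul_mem_iff_of_index_two hidx, inv_mem_iff]
          exact iff_of_false hcM hx
        have hc' : c ∈ (Subgroup.zpowers (g c)).comap g ⊔ N :=
          Subgroup.mem_sup_left (Subgroup.mem_zpowers _)
        simpa using mul_mem hc' (hMle hcx)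
  refine ⟨{ z := ⟨t, Subgroup.mem_centralizer_singleton_iff.2 rfl⟩
            zc := fun x => Subtype.ext (Subgroup.mem_centralizer_singleton_iff.1 x.2).symm
            z1 := fun h => by
              have : t = 1 := congrArg Subtype.val h
              rw [this, orderOf_one] at ht
              omega
            Q := Q, N := N, Qn := inferInstance, hQ := hQ, cardQ := by rw [hcard], self := h2c, hQN := hQN
            cardN := hN3
            φ := φ, surj := hsurj, ker := hker, hcent := hcent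
            hperf := by rw [← hMdef]; exact hperf }, rfl⟩

/-- Recognition: the hypotheses of the first shape give Janko-four type. -/
theorem jankoFour_of_middle (ht : orderOf t = 2) (Q N M : Subgroup ↥(Subgroup.centralizer ({t} : Set G)))
    [Q.Normal] [N.Normal] [M.Normal] (hQN : Q ≤ N) (hNM : N ≤ M) (hM : M.index = 2)
    (hQ : Cfsg.IsExtraspecial 2 Q) (hcard : Nat.card Q = 2 ^ 13) (hN : Nat.card N = 3 * Nat.card Q)
    (hcent : ⁅M, N⁆ ≤ Q) (hperf : M ≤ ⁅M, M⁆ ⊔ Q)
    (h2c : Subgroup.centralizer (Q : Set (Subgroup.centralizer ({t} : Set G))) ≤ Q)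
    (hout : ∀ c : Subgroup.centralizer ({t} : Set G), (∀ m ∈ M, c * m * c⁻¹ * m⁻¹ ∈ N) → c ∈ M)
    (hM22 : Cfsg.Spor.IsoM22 (M ⧸ N.subgroupOf M)) : Cfsg.IsOfJankoFourTypeAt t := by
  obtain ⟨S, hS⟩ := exists_pre_of_middle ht Q N M hQN hNM hM hQ hcard hN hcent hperf h2c hout hM22
  exact isOfJankoFourTypeAt t ht S hS

/-- Recognition: the hypotheses of the second shape give Janko-four type. -/
theorem jankoFour_of_aut (Q N : Subgroup ↥(Subgroup.centralizer ({t} : Set G))) [Q.Normal] [N.Normal]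
    (hS : Cfsg.IsExtraspecialCentralizerSetting t Q 6) (hQN : Q ≤ N) (hN3 : Nat.card ↥N = 3 * Nat.card ↥Q)
    (hns : ∀ K : Subgroup ↥(Subgroup.centralizer ({t} : Set G)), K ⊓ N = Q → K ⊔ N = ⊤ → False)
    (hAut : Nonempty (↥(Subgroup.centralizer ({t} : Set G)) ⧸ N ≃* MulAut ↥Cfsg.Spor.M22)) :
    Cfsg.IsOfJankoFourTypeAt t := by
  obtain ⟨S, hSt⟩ := exists_pre_of_aut Q N hS hQN hN3 hns hAut
  exact isOfJankoFourTypeAt t hS.1 S hSt

end Cfsg.Agent.Lib.J4Bridge14
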