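import Cfsg.Agent.Lib.J4Bridge14.Setting

/-!
# A non-abelian Sylow three-subgroup of `D`
-/

set_option autoImplicit false

namespace Cfsg.Agent.Lib.J4Bridge14

open Cfsg
open Cfsg.Agent.Lib.J4Type19 (M22t m22_card m22_conj_injective)

/-- A power of two of at most `2^6` which is `64` modulo `11` is `64`. -/
theorem two_pow_eq_sixtyfour {c : ℕ} (hd : c ∣ 64) (hm : c % 11 = 64 % 11) : c = 64 := by
  obtain ⟨i, hi, rfl⟩ := (Nat.dvd_prime_pow Nat.prime_two).1 (show c ∣ 2 ^ 6 by simpa using hd)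
  interval_cases i <;> omega

/-- Elements `a`, `b` of order three generating an elementary group of order nine, with `a` inverted. -/
structure Pair : Type where
  a : M22t
  b : M22t
  y : M22t
  a3 : a ^ 3 = 1
  b3 : b ^ 3 = 1
  ab : Commute a b
  a1 : a ≠ 1
  b1 : b ≠ 1
  ba : b ≠ a
  ba' : b ≠ a⁻¹
  inv : y * a * y⁻¹ = a⁻¹

namespace Pair

theorem card_closure (T : Pair) :
    Nat.card ↥(Subgroup.closure ({T.a, T.b} : Set M22t)) = 9 ∧
      ∀ x ∈ Subgroup.closure ({T.a, T.b} : Set M22t), x ^ 3 = 1 := by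
  classical
  have := Cfsg.Agent.Lib.J4Type19.m22_finite
  have hgen : ∀ x ∈ ({T.a, T.b} : Set M22t), ∀ y ∈ ({T.a, T.b} : Set M22t), Commute x y := by
    rintro x (rfl | rfl) y (rfl | rfl)
    exacts [Commute.refl _, T.ab, T.ab.symm, Commute.refl _]
  have hcom : IsMulCommutative ↥(Subgroup.closure ({T.a, T.b} : Set M22t)) :=
    Subgroup.isMulCommutative_closure (fun x hx y hy => hgen x hx y hy)
  have hexp : ∀ x ∈ Subgroup.closure ({T.a, T.b} : Set M22t), x ^ 3 = 1 := by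
    intro x hx
    induction hx using Subgroup.closure_induction with
    | mem y hy => rcases hy with rfl | rfl; exacts [T.a3, T.b3]
    | one => exact one_pow 3
    | mul u v hu hv ihu ihv =>
      have hc : Commute u v := congrArg Subtype.val (hcom.is_comm.comm ⟨u, hu⟩ ⟨v, hv⟩)
      rw [hc.mul_pow, ihu, ihv, mul_one]
    | inv u _ ihu => rw [inv_pow, ihu, inv_one]
  refine ⟨?_, hexp⟩
  have : Fact (Nat.Prime 3) := ⟨Nat.prime_three⟩
  have hpg : IsPGroup 3 ↥(Subgroup.closure ({T.a, T.b} : Set M22t)) :=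
    fun x => ⟨1, Subtype.ext (by simpa using hexp x x.2)⟩
  obtain ⟨k, hk⟩ := IsPGroup.iff_card.1 hpg
  have hainv : T.a⁻¹ ≠ T.a := fun h => by
    apply T.a1
    have h3 := T.a3
    rw [pow_succ, pow_two] at h3
    conv_lhs at h3 => arg 1; arg 1; rw [← h]
    rwa [inv_mul_cancel, one_mul] at h3
  let s : Finset M22t := {1, T.a, T.a⁻¹, T.b}
  have hs : s.card = 4 := by
    simp only [s]
    rw [Finset.card_insert_of_notMem, Finset.card_insert_of_notMem, Finset.card_insert_of_notMem,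
      Finset.card_singleton]
    · simp [T.ba'.symm]
    · simp [hainv.symm, T.ba.symm]
    · simp [T.a1.symm, T.b1.symm, eq_comm (a := (1 : M22t)), T.a1]
  have h4 : 4 ≤ Nat.card ↥(Subgroup.closure ({T.a, T.b} : Set M22t)) := by
    show 4 ≤ Nat.card ↥(Subgroup.closure ({T.a, T.b} : Set M22t) : Set M22t)
    rw [Nat.card_coe_set_eq, ← hs, ← Set.ncard_coe_finset]
    refine Set.ncard_le_ncard ?_ (Set.toFinite _)
    intro x hx
    simp [s] at hx
    rcases hx with rfl | rfl | rfl | rfl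
    exacts [one_mem _, Subgroup.subset_closure (by simp), inv_mem (Subgroup.subset_closure (by simp)),
      Subgroup.subset_closure (by simp)]
  have hdvd : 3 ^ k ∣ 443520 := hk ▸ m22_card ▸ Subgroup.card_subgroup_dvd_card _
  rw [hk] at h4 ⊢
  have hk2 : k ≤ 2 := by
    by_contra hlt
    have : 3 ^ 3 ∣ 443520 := (Nat.pow_dvd_pow 3 (by omega)).trans hdvd
    norm_num at this
  interval_cases k <;> simp_all

end Pair

namespace Frame

variable {C : Type*} [Group C] [Finite C] (F : Frame C)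

/-- Everything used about the Sylow three-subgroup of `D`. -/
structure ThreeData (T : Pair) (π : ↥F.D →* M22t) : Type _ where
  A : ↥F.D
  B : ↥F.D
  i : ℕ
  πA : π A = T.a
  πB : π B = T.b
  A3 : ∃ j : ℕ, A ^ 3 = (⟨F.p, F.pD⟩ : ↥F.D) ^ j
  rel : B * A * B⁻¹ = (⟨F.p, F.pD⟩ : ↥F.D) ^ i * A
  i_ne : i % 3 ≠ 0

theorem exists_threeData (T : Pair) {π : ↥F.D →* M22t} (hs : Function.Surjective π)
    (hπ : ∀ d : ↥F.D, MulAut.conj (π d) = F.φ (d : C)) : Nonempty (F.ThreeData T π) := by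
  classical
  have : Fact (Nat.Prime 3) := ⟨Nat.prime_three⟩
  obtain ⟨hU9, hUexp⟩ := T.card_closure
  obtain ⟨U, hU⟩ : ∃ U, U = (Subgroup.closure ({T.a, T.b} : Set M22t)).comap π := ⟨_, rfl⟩
  obtain ⟨pD, hpD⟩ : ∃ pD, pD = (⟨F.p, F.pD⟩ : ↥F.D) := ⟨_, rfl⟩
  have hpD3 : pD ^ 3 = 1 := hpD ▸ Subtype.ext F.p3
  have hπp : π pD = 1 := (F.ker_pi hπ pD).2 ⟨1, one_mem _, Commute.one_left _, 1, by rw [hpD]; simp⟩
  have hpc : ∀ d : ↥F.D, Commute pD d := fun d => hpD ▸ Subtype.ext d.2.2.symm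
  have hker3 : ∀ d : ↥F.D, π d = 1 → ∀ k : ℕ, d ^ (3 ^ k) = 1 → ∃ i : ℕ, d = pD ^ i := by
    intro d hd k hk
    obtain ⟨f, hf, hfc, i, he⟩ := (F.ker_pi hπ d).1 hd
    refine ⟨i, ?_⟩
    have hk' : (d : C) ^ (3 ^ k) = 1 := congrArg Subtype.val hk
    rw [he, (hfc.pow_right i).mul_pow, ← pow_mul, mul_comm i, pow_mul, mul_eq_one_iff_eq_inv] at hk'
    have hf1 : f = 1 := F.eq_one_of_mem_of_three_pow hf (k := k + 1) (by
      rw [pow_succ, pow_mul, hk', inv_pow, ← pow_mul, mul_comm i, ← pow_mul,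
        show 3 ^ k * (3 * i) = 3 * (3 ^ k * i) by ring, pow_mul, F.p3, one_pow, inv_one])
    rw [hpD]
    refine Subtype.ext ?_
    rw [he, hf1, one_mul]; rfl
  let R : Sylow 3 ↥U := default
  let R' : Subgroup ↥F.D := (R : Subgroup ↥U).map U.subtype
  have hRU : R' ≤ U := Subgroup.map_subtype_le _
  have hR'pg : IsPGroup 3 ↥R' := R.2.map _
  -- the image of the Sylow subgroup
  have hRim : R'.map π = Subgroup.closure ({T.a, T.b} : Set M22t) := by
    have hle : R'.map π ≤ Subgroup.closure ({T.a, T.b} : Set M22t) :=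
      (Subgroup.map_mono hRU).trans (by rw [hU]; exact Subgroup.map_comap_le _ _)
    refine Subgroup.eq_of_le_of_card_ge hle ?_
    obtain ⟨m, hm⟩ := IsPGroup.iff_card.1 (hR'pg.map π)
    have hmle : Nat.card ↥(R'.map π) ∣ 9 := hU9 ▸ Subgroup.card_dvd_of_le hle
    have hidx : ¬ 3 ∣ (R : Subgroup ↥U).index := R.not_dvd_index
    let f : ↥U →* ↥(Subgroup.closure ({T.a, T.b} : Set M22t)) :=
      (π.comp U.subtype).codRestrict _ fun u => Subgroup.mem_comap.1 (hU.le u.2)
    have hfs : Function.Surjective f := fun x => by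
      obtain ⟨d, hd⟩ := hs x
      exact ⟨⟨d, hU.ge (Subgroup.mem_comap.2 (hd ▸ x.2))⟩, Subtype.ext hd⟩
    have h1 : ((R : Subgroup ↥U).map f).index ∣ (R : Subgroup ↥U).index :=
      Subgroup.index_map_dvd _ hfs
    have h2 : Nat.card ↥((R : Subgroup ↥U).map f) = Nat.card ↥(R'.map π) := by
      rw [Nat.card_congr (Subgroup.equivMapOfInjective ((R : Subgroup ↥U).map f)
        (Subgroup.closure ({T.a, T.b} : Set M22t)).subtype (Subgroup.subtype_injective _)).toEquiv]
      congr 1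
      simp only [R', Subgroup.map_map]
      rfl
    have h3 := ((R : Subgroup ↥U).map f).card_mul_index
    rw [h2, hU9, hm] at h3
    rw [hU9, hm]
    have h4 : ((R : Subgroup ↥U).map f).index = 1 := by
      have hd : ((R : Subgroup ↥U).map f).index ∣ 3 ^ 2 := ⟨3 ^ m, by rw [mul_comm, h3]; norm_num⟩
      obtain ⟨e, he, hee⟩ := (Nat.dvd_prime_pow Nat.prime_three).1 hd
      rcases e with _ | e
      · simpa using hee
      · exact absurd ((hee ▸ dvd_pow_self 3 (by omega : e + 1 ≠ 0)).trans h1) hidx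
    rw [h4, mul_one] at h3
    omega
  obtain ⟨A, hA, hAe⟩ := hRim.ge (Subgroup.subset_closure (show T.a ∈ ({T.a, T.b} : Set M22t) by simp))
  obtain ⟨B, hB, hBe⟩ := hRim.ge (Subgroup.subset_closure (show T.b ∈ ({T.a, T.b} : Set M22t) by simp))
  have hRk : ∀ x ∈ R', π x = 1 → ∃ i : ℕ, x = pD ^ i := by
    intro x hx h1
    obtain ⟨k, hk⟩ := hR'pg ⟨x, hx⟩
    exact hker3 x h1 k (congrArg Subtype.val hk)
  obtain ⟨i, hi⟩ := hRk (B * A * B⁻¹ * A⁻¹) (mul_mem (mul_mem (mul_mem hB hA) (inv_mem hB)) (inv_mem hA)) (by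
    rw [map_mul, map_mul, map_mul, map_inv, map_inv, hAe, hBe, mul_inv_eq_one, mul_inv_eq_iff_eq_mul]
    exact T.ab.eq.symm)
  obtain ⟨j, hj⟩ := hRk (A ^ 3) (pow_mem hA 3) (by rw [map_pow, hAe, T.a3])
  refine ⟨⟨A, B, i, hAe, hBe, ⟨j, hpD ▸ hj⟩, ?_, ?_⟩⟩
  · rw [← hpD, ← hi]; group
  intro h0
  -- an abelian Sylow three-subgroup would give a transfer contradiction
  have hpi : pD ^ i = 1 := by rw [← Nat.mod_add_div i 3, h0, zero_add, pow_mul, hpD3, one_pow]
  have hAB : Commute B A := by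
    rw [hpi, mul_inv_eq_one, mul_inv_eq_iff_eq_mul] at hi
    exact hi
  obtain ⟨K, hK⟩ : ∃ K, K = Subgroup.closure ({A, B, pD} : Set ↥F.D) := ⟨_, rfl⟩
  have hgen : ∀ x ∈ ({A, B, pD} : Set ↥F.D), ∀ y ∈ ({A, B, pD} : Set ↥F.D), Commute x y := by
    rintro x (rfl | rfl | rfl) y (rfl | rfl | rfl)
    exacts [Commute.refl _, hAB.symm, (hpc _).symm, hAB, Commute.refl _, (hpc _).symm, hpc _, hpc _, Commute.refl _]
  have hKc : IsMulCommutative ↥K := hK ▸ Subgroup.isMulCommutative_closure (fun x hx y hy => hgen x hx y hy)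
  have hKpg : IsPGroup 3 ↥K := by
    rintro ⟨x, hx⟩
    have : ∃ k : ℕ, x ^ (3 ^ k) = 1 := by
      have hcase : ∀ w ∈ K, ∃ k : ℕ, w ^ (3 ^ k) = 1 := by
        intro w hw
        rw [hK] at hw
        induction hw using Subgroup.closure_induction with
        | mem v hv =>
          rcases hv with rfl | rfl | rfl
          · obtain ⟨k, hk⟩ := hR'pg ⟨_, hA⟩; exact ⟨k, congrArg Subtype.val hk⟩
          · obtain ⟨k, hk⟩ := hR'pg ⟨_, hB⟩; exact ⟨k, congrArg Subtype.val hk⟩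
          · exact ⟨1, by rw [pow_one, hpD3]⟩
        | one => exact ⟨0, one_pow _⟩
        | mul u v hu hv ihu ihv =>
          obtain ⟨k, hk⟩ := ihu
          obtain ⟨l, hl⟩ := ihv
          have hc : Commute u v := congrArg Subtype.val (hKc.is_comm.comm (⟨u, hK ▸ hu⟩ : ↥K) ⟨v, hK ▸ hv⟩)
          refine ⟨k + l, ?_⟩
          rw [hc.mul_pow, pow_add, pow_mul, hk, one_pow, mul_comm (3 ^ k), pow_mul, hl, one_pow, one_mul]
        | inv u _ ihu =>
          obtain ⟨k, hk⟩ := ihu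
          exact ⟨k, by rw [inv_pow, hk, inv_one]⟩
      exact hcase x hx
    obtain ⟨k, hk⟩ := this
    exact ⟨k, Subtype.ext hk⟩
  obtain ⟨k, hk⟩ := IsPGroup.iff_card.1 hKpg
  -- the order of K
  have hKim : Subgroup.closure ({T.a, T.b} : Set M22t) ≤ K.map π := by
    rw [Subgroup.closure_le]
    rintro x (rfl | rfl)
    · exact ⟨A, hK ▸ Subgroup.subset_closure (by simp), hAe⟩
    · exact ⟨B, hK ▸ Subgroup.subset_closure (by simp), hBe⟩
  have hkerne : (π.comp K.subtype).ker ≠ ⊥ := fun h => by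
    have := Subgroup.mem_bot.1 (h ▸ (show (⟨pD, hK ▸ Subgroup.subset_closure (by simp)⟩ : ↥K) ∈
      (π.comp K.subtype).ker from hπp))
    have h' : pD = 1 := congrArg Subtype.val this
    rw [hpD] at h'
    exact F.p1 (congrArg Subtype.val h')
  have hk3 : 3 ≤ k := by
    have h := (π.comp K.subtype).ker.card_mul_index
    rw [Subgroup.index_ker, MonoidHom.range_comp, Subgroup.range_subtype, hk] at h
    obtain ⟨m, hm⟩ := IsPGroup.iff_card.1 (hKpg.to_subgroup (π.comp K.subtype).ker)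
    have hd : 9 ∣ Nat.card ↥(K.map π) := hU9 ▸ Subgroup.card_dvd_of_le hKim
    rcases m with _ | m
    · exact absurd (Subgroup.eq_bot_of_card_eq _ (by simpa using hm)) hkerne
    · have h27 : 3 ^ 3 ∣ 3 ^ k := by
        rw [← h, hm, show (3 : ℕ) ^ 3 = 3 * 9 from rfl]
        exact mul_dvd_mul (dvd_pow_self 3 (by omega)) hd
      exact (Nat.pow_dvd_pow_iff_le_right (by norm_num)).1 h27
  -- the order of D
  have hcardD : ∃ f : ℕ, ¬ 3 ∣ f ∧ Nat.card ↥F.D = 27 * f := by
    have hkc : Nat.card ↥π.ker = Nat.card ↥(F.Q ⊓ Subgroup.centralizer ({F.p} : Set C)) * 3 := by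
      let g : ↥(F.Q ⊓ Subgroup.centralizer ({F.p} : Set C)) × Fin 3 → ↥π.ker := fun w =>
        ⟨⟨(w.1 : C) * F.p ^ (w.2 : ℕ), by
          have hw := Subgroup.mem_centralizer_singleton_iff.1 w.1.2.2
          refine ⟨?_, Commute.mul_left hw ((Commute.refl F.p).pow_left _)⟩
          rw [(F.ker _).2 (mul_mem (F.hQN w.1.2.1) (pow_mem F.pN _))]
          exact one_mem _⟩, MonoidHom.mem_ker.2 ((F.ker_pi hπ _).2 ⟨_, w.1.2.1,
            Subgroup.mem_centralizer_singleton_iff.1 w.1.2.2, _, rfl⟩)⟩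
      have hg : Function.Bijective g := by
        constructor
        · rintro ⟨q, i⟩ ⟨q', j⟩ h
          have h' : (q : C) * F.p ^ (i : ℕ) = q' * F.p ^ (j : ℕ) :=
            congrArg (fun x : ↥π.ker => ((x : ↥F.D) : C)) h
          have h1 : ((q' : C))⁻¹ * q = F.p ^ (j : ℕ) * (F.p ^ (i : ℕ))⁻¹ := by
            rw [inv_mul_eq_iff_eq_mul, ← mul_assoc, eq_mul_inv_iff_mul_eq]; exact h'
          have h4 : ((q' : C))⁻¹ * q = 1 :=
            F.eq_one_of_mem_of_cube (mul_mem (inv_mem q'.2.1) q.2.1) (by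
              rw [h1, ((Commute.refl F.p).pow_pow _ _).inv_right.mul_pow, inv_pow, ← pow_mul, ← pow_mul,
                mul_comm (j : ℕ), mul_comm (i : ℕ), pow_mul, pow_mul, F.p3, one_pow, one_pow, inv_one, one_mul])
          have hq : q = q' := Subtype.ext (inv_mul_eq_one.1 h4).symm
          rw [h4, eq_comm, mul_inv_eq_one] at h1
          rw [pow_eq_pow_iff_modEq, orderOf_eq_prime (hp := ⟨Nat.prime_three⟩) F.p3 F.p1] at h1
          exact Prod.ext hq (Fin.ext (Nat.ModEq.eq_of_lt_of_lt h1.symm i.2 j.2))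
        · rintro ⟨d, hd⟩
          obtain ⟨f, hf, hfc, i, he⟩ := (F.ker_pi hπ d).1 (MonoidHom.mem_ker.1 hd)
          refine ⟨(⟨f, hf, Subgroup.mem_centralizer_singleton_iff.2 hfc⟩, ⟨i % 3, Nat.mod_lt _ (by norm_num)⟩),
            Subtype.ext (Subtype.ext ?_)⟩
          show f * F.p ^ (i % 3) = (d : C)
          rw [he]
          conv_rhs => rw [← Nat.mod_add_div i 3, pow_add, pow_mul, F.p3, one_pow, mul_one]
      rw [← Nat.card_eq_of_bijective g hg, Nat.card_prod, Nat.card_fin]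
    have h := π.ker.card_mul_index
    rw [Subgroup.index_ker, MonoidHom.range_eq_top.2 hs, Subgroup.card_top, hkc, m22_card] at h
    refine ⟨Nat.card ↥(F.Q ⊓ Subgroup.centralizer ({F.p} : Set C)) * 49280, ?_, by rw [← h]; ring⟩
    intro h3
    rcases (Nat.prime_three.dvd_mul).1 h3 with h3 | h3
    · have := (h3.trans (Subgroup.card_dvd_of_le inf_le_left)).trans (dvd_of_eq F.cardQ)
      exact absurd (Nat.prime_three.dvd_of_dvd_pow this) (by norm_num)
    · norm_num at h3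
  obtain ⟨f, hf3, hfD⟩ := hcardD
  have hidx : ¬ 3 ∣ K.index := fun ⟨r, hr⟩ => by
    have h := K.card_mul_index
    rw [hk, hr, hfD, show k = 3 + (k - 3) by omega, pow_add] at h
    apply hf3
    refine ⟨3 ^ (k - 3) * r, Nat.eq_of_mul_eq_mul_left (show 0 < 27 by norm_num) ?_⟩
    rw [← h]; ring
  open scoped IsMulCommutative in
  let τ : ↥F.D →* ↥K := MonoidHom.transfer (MonoidHom.id ↥K)
  have hτ : pD ^ K.index = 1 := by
    have hpmem : pD ∈ commutator ↥F.D := by
      have h : (commutator ↥F.D).map F.D.subtype = ⁅F.D, F.D⁆ := by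
        rw [commutator_def, Subgroup.map_commutator, ← MonoidHom.range_eq_map, Subgroup.range_subtype]
      obtain ⟨x, hx, hxp⟩ := h.ge F.p_mem_commutator
      exact (Subtype.ext (hpD ▸ hxp) : x = pD) ▸ hx
    have h1 : τ pD = 1 := by
      open scoped IsMulCommutative in
      exact MonoidHom.mem_ker.1 (Abelianization.commutator_subset_ker τ hpmem)
    have h2 := MonoidHom.transfer_eq_pow (MonoidHom.id ↥K) pD fun n g _ => by
      rw [mul_assoc, ((hpc g).pow_left n).eq, inv_mul_cancel_left]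
    exact congrArg Subtype.val (h2.symm.trans h1)
  have hone : pD = 1 := by
    rcases (Nat.dvd_prime Nat.prime_three).1 (orderOf_dvd_of_pow_eq_one hpD3) with h | h
    · exact orderOf_eq_one_iff.1 h
    · exact absurd (h ▸ orderOf_dvd_of_pow_eq_one hτ) hidx
  rw [hpD] at hone
  exact F.p1 (congrArg Subtype.val hone)

end Frame

end Cfsg.Agent.Lib.J4Bridge14
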